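import Mathlib
import Cfsg.Prelude.Def_Solvable

/-!
Abstract Frobenius complements: `IsFC G` says that `G` is isomorphic to a Frobenius complement of a
finite group.  Criteria from fixed-point-free actions.
-/

set_option autoImplicit false

namespace CfsgLib.FrobCompl

open scoped Pointwise

/-- `G` occurs as a Frobenius complement of a finite group, with index `m`. -/
def IsFCI (G : Type*) [Group G] (m : ℕ) : Prop :=
  ∃ (L : Type) (_ : Group L) (_ : Finite L) (H : Subgroup L),
    Cfsg.IsFrobeniusComplement H ∧ Nonempty (G ≃* H) ∧ H.index = m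

/-- `G` occurs as a Frobenius complement of a finite group. -/
def IsFC (G : Type*) [Group G] : Prop :=
  ∃ (L : Type) (_ : Group L) (_ : Finite L) (H : Subgroup L),
    Cfsg.IsFrobeniusComplement H ∧ Nonempty (G ≃* H)

theorem IsFCI.isFC {G : Type*} [Group G] {m : ℕ} (h : IsFCI G m) : IsFC G := by
  obtain ⟨L, i1, i2, H, h1, h2, -⟩ := h
  exact ⟨L, i1, i2, H, h1, h2⟩

theorem IsFC.of_equiv {G G' : Type*} [Group G] [Group G'] (e : G ≃* G') (h : IsFC G) : IsFC G' := by
  obtain ⟨L, i1, i2, H, h1, ⟨f⟩⟩ := h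
  exact ⟨L, i1, i2, H, h1, ⟨e.symm.trans f⟩⟩

theorem IsFCI.of_equiv {G G' : Type*} [Group G] [Group G'] {m : ℕ} (e : G ≃* G')
    (h : IsFCI G m) : IsFCI G' m := by
  obtain ⟨L, i1, i2, H, h1, ⟨f⟩, h3⟩ := h
  exact ⟨L, i1, i2, H, h1, ⟨e.symm.trans f⟩, h3⟩

theorem IsFC.symm_form {G : Type*} [Group G] (h : IsFC G) :
    ∃ (L : Type) (_ : Group L) (_ : Finite L) (H : Subgroup L),
      Cfsg.IsFrobeniusComplement H ∧ Nonempty (H ≃* G) := by
  obtain ⟨L, i1, i2, H, h1, ⟨f⟩⟩ := h
  exact ⟨L, i1, i2, H, h1, ⟨f.symm⟩⟩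

theorem isFCI_of_action0 {G V : Type} [Group G] [Finite G] [Nontrivial G] [Group V] [Finite V]
    [Nontrivial V] (φ : G →* MulAut V) (hφ : ∀ g : G, g ≠ 1 → ∀ v, φ g v = v → v = 1) :
    IsFCI G (Nat.card V) := by
  have hfin : Finite (V ⋊[φ] G) := Finite.of_equiv _ SemidirectProduct.equivProd.symm
  refine ⟨V ⋊[φ] G, inferInstance, hfin, (SemidirectProduct.inr : G →* V ⋊[φ] G).range,
    ⟨?_, ?_, ?_⟩, ⟨MonoidHom.ofInjective SemidirectProduct.inr_injective⟩, ?_⟩
  · obtain ⟨g, hg⟩ := exists_ne (1 : G)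
    intro h
    have : (SemidirectProduct.inr g : V ⋊[φ] G) ∈ (⊥ : Subgroup (V ⋊[φ] G)) := h ▸ ⟨g, rfl⟩
    rw [Subgroup.mem_bot] at this
    exact hg (SemidirectProduct.inr_injective (this.trans (map_one _).symm))
  · obtain ⟨v, hv⟩ := exists_ne (1 : V)
    intro h
    have : (SemidirectProduct.inl v : V ⋊[φ] G) ∈
        (SemidirectProduct.inr : G →* V ⋊[φ] G).range := h ▸ Subgroup.mem_top _
    obtain ⟨g, hg⟩ := this
    have := congrArg SemidirectProduct.left hg
    simp at this
    exact hv this.symm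
  · intro x hx
    rw [eq_bot_iff]
    intro y hy
    obtain ⟨⟨a, rfl⟩, h2⟩ := Subgroup.mem_inf.1 hy
    rw [Subgroup.mem_pointwise_smul_iff_inv_smul_mem] at h2
    obtain ⟨b, hb⟩ := h2
    have hv : x.left ≠ 1 := by
      intro h
      apply hx
      refine ⟨x.right, ?_⟩
      ext
      · simp [h]
      · simp
    have h3 : x * SemidirectProduct.inr b = SemidirectProduct.inr a * x := by
      rw [hb]
      simp [mul_assoc]
    have h4 := congrArg SemidirectProduct.left h3
    simp at h4
    rw [Subgroup.mem_bot]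
    by_contra ha
    have ha' : a ≠ 1 := by
      rintro rfl
      exact ha (map_one _)
    exact hv (hφ a ha' _ h4.symm)
  · have h1 := ((SemidirectProduct.inr : G →* V ⋊[φ] G).range).index_mul_card
    rw [← Nat.card_congr (MonoidHom.ofInjective
      (SemidirectProduct.inr_injective (φ := φ))).toEquiv, SemidirectProduct.card] at h1
    exact Nat.eq_of_mul_eq_mul_right Nat.card_pos h1

/-- A fixed-point-free action on a nontrivial finite group makes `G` a Frobenius complement. -/
theorem isFCI_of_action {G V : Type*} [Group G] [Finite G] [Nontrivial G] [Group V] [Finite V]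
    [Nontrivial V] (φ : G →* MulAut V) (hφ : ∀ g : G, g ≠ 1 → ∀ v, φ g v = v → v = 1) :
    IsFCI G (Nat.card V) := by
  let e : Shrink.{0} G ≃* G := Shrink.mulEquiv
  let e' : Shrink.{0} V ≃* V := Shrink.mulEquiv
  have : Finite (Shrink.{0} G) := Finite.of_equiv _ e.symm.toEquiv
  have : Finite (Shrink.{0} V) := Finite.of_equiv _ e'.symm.toEquiv
  have : Nontrivial (Shrink.{0} G) := e.toEquiv.nontrivial
  have : Nontrivial (Shrink.{0} V) := e'.toEquiv.nontrivial
  have := isFCI_of_action0 (G := Shrink.{0} G) (V := Shrink.{0} V)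
    (((MulAut.congr e'.symm).toMonoidHom.comp φ).comp e.toMonoidHom) (by
      intro g hg v hv
      have h1 : e g ≠ 1 := by simpa using hg
      have h2 : φ (e g) (e' v) = e' v := by
        apply e'.symm.injective
        simpa [MulAut.congr] using hv
      simpa using hφ _ h1 _ h2)
  rw [Nat.card_congr e'.toEquiv] at this
  exact this.of_equiv e

/-- Additive version with an invariant finite subgroup. -/
theorem isFCI_of_addSubgroup {G V : Type*} [Group G] [Finite G] [Nontrivial G] [AddGroup V]
    (ρ : G →* AddMonoid.End V) (W : AddSubgroup V) [Finite W] (hW : W ≠ ⊥)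
    (hinv : ∀ g, ∀ w ∈ W, ρ g w ∈ W)
    (hρ : ∀ g : G, g ≠ 1 → ∀ v ∈ W, ρ g v = v → v = 0) : IsFCI G (Nat.card W) := by
  have : Nontrivial W := (AddSubgroup.nontrivial_iff_ne_bot W).2 hW
  have hmul : ∀ g h v, ρ (g * h) v = ρ g (ρ h v) := fun g h v => by rw [map_mul]; rfl
  let φ : G →* MulAut (Multiplicative W) :=
    { toFun := fun g =>
        { toFun := fun w => Multiplicative.ofAdd ⟨ρ g (w.toAdd : W), hinv g _ (w.toAdd).2⟩
          invFun := fun w => Multiplicative.ofAdd ⟨ρ g⁻¹ (w.toAdd : W), hinv g⁻¹ _ (w.toAdd).2⟩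
          left_inv := fun w => by
            apply Multiplicative.toAdd.injective
            ext
            simp [← hmul]
          right_inv := fun w => by
            apply Multiplicative.toAdd.injective
            ext
            simp [← hmul]
          map_mul' := fun a b => by
            apply Multiplicative.toAdd.injective
            ext
            simp }
      map_one' := by
        ext w
        simp
      map_mul' := fun g h => by
        ext w
        simp [hmul] }
  have := isFCI_of_action φ (by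
    intro g hg v hv
    have h1 : ρ g (v.toAdd : W) = (v.toAdd : W) := congrArg (fun w => ((w.toAdd : W) : V)) hv
    have h2 := hρ g hg _ (v.toAdd).2 h1
    apply Multiplicative.toAdd.injective
    ext
    simpa using h2)
  exact this

/-- The function criterion, finite coefficients. -/
theorem isFC_of_fun {G : Type*} [Group G] [Finite G] [Nontrivial G] {A : Type*} [AddCommGroup A]
    [Finite A] (N : ℕ) (hA : ∀ a : A, N • a = 0 → a = 0) (f : G → A) (hf0 : f ≠ 0)
    (hf : ∀ h : G, h ≠ 1 → ∀ x, ∑ i ∈ Finset.range N, f (h ^ i * x) = 0) : IsFC G := by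
  let ρ : G →* AddMonoid.End (G → A) :=
    { toFun := fun g =>
        { toFun := fun f x => f (g⁻¹ * x)
          map_zero' := rfl
          map_add' := fun _ _ => rfl }
      map_one' := by
        ext f x
        change f (1⁻¹ * x) = f x
        simp
      map_mul' := fun g h => by
        ext f x
        change f ((g * h)⁻¹ * x) = f (h⁻¹ * (g⁻¹ * x))
        simp [mul_assoc] }
  have hρ : ∀ g f x, ρ g f x = f (g⁻¹ * x) := fun _ _ _ => rfl
  let W : AddSubgroup (G → A) :=
    { carrier := {f | ∀ h : G, h ≠ 1 → ∀ x, ∑ i ∈ Finset.range N, f (h ^ i * x) = 0}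
      zero_mem' := by intro h _ x; simp
      add_mem' := by
        intro a b ha hb h hh x
        simp [Finset.sum_add_distrib, ha h hh x, hb h hh x]
      neg_mem' := by
        intro a ha h hh x
        simp [ha h hh x] }
  refine (isFCI_of_addSubgroup ρ W ?_ ?_ ?_).isFC
  · intro h
    have : f ∈ W := hf
    rw [h, AddSubgroup.mem_bot] at this
    exact hf0 this
  · intro g w hw h hh x
    have h1 : g⁻¹ * h * g ≠ 1 := by
      intro h2
      apply hh
      have : h = g * (g⁻¹ * h * g) * g⁻¹ := by group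
      rw [this, h2]; simp
    have := hw _ h1 (g⁻¹ * x)
    rw [← this]
    refine Finset.sum_congr rfl fun i _ => ?_
    rw [hρ]
    congr 1
    have : (g⁻¹ * h * g) ^ i = g⁻¹ * h ^ i * g := by
      simpa using (conj_pow (a := g⁻¹) (b := h) (i := i))
    rw [this]; group
  · intro g hg v hv h
    ext x
    have h1 : ∀ y, v (g⁻¹ * y) = v y := fun y => by rw [← hρ g v y, h]
    have h2 : ∀ i : ℕ, v (g⁻¹ ^ i * x) = v x := by
      intro i
      induction i with
      | zero => simp
      | succ i ih => rw [pow_succ', mul_assoc, h1, ih]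
    have h3 := hv g⁻¹ (by simpa using hg) x
    simp only [h2, Finset.sum_const, Finset.card_range] at h3
    exact hA _ h3

/-- The function criterion, integer coefficients. -/
theorem isFC_of_fun_int {G : Type*} [Group G] [Finite G] [Nontrivial G]
    (N : ℕ) (hN : 0 < N) (f : G → ℤ) (hf0 : f ≠ 0)
    (hf : ∀ h : G, h ≠ 1 → ∀ x, ∑ i ∈ Finset.range N, f (h ^ i * x) = 0) : IsFC G := by
  obtain ⟨x0, hx0⟩ := Function.ne_iff.1 hf0
  obtain ⟨p, hp1, hp⟩ := Nat.exists_infinite_primes (N + (f x0).natAbs + 1)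
  have := Fact.mk hp
  refine isFC_of_fun (A := ZMod p) N ?_ (fun x => (f x : ZMod p)) ?_ ?_
  · intro a ha
    rw [nsmul_eq_mul, mul_eq_zero] at ha
    refine ha.resolve_left fun h => ?_
    rw [ZMod.natCast_eq_zero_iff] at h
    have := Nat.le_of_dvd hN h
    omega
  · intro h
    have h1 : (f x0 : ZMod p) = 0 := congrFun h x0
    rw [ZMod.intCast_zmod_eq_zero_iff_dvd, Int.natCast_dvd] at h1
    have := Nat.le_of_dvd (Int.natAbs_pos.2 hx0) h1
    omega
  · intro h hh x
    rw [← Int.cast_sum, hf h hh x, Int.cast_zero]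

/-- The function criterion, rational coefficients. -/
theorem isFC_of_fun_rat {G : Type*} [Group G] [Finite G] [Nontrivial G]
    (N : ℕ) (hN : 0 < N) (f : G → ℚ) (hf0 : f ≠ 0)
    (hf : ∀ h : G, h ≠ 1 → ∀ x, ∑ i ∈ Finset.range N, f (h ^ i * x) = 0) : IsFC G := by
  obtain ⟨b, hb⟩ := IsLocalization.exist_integer_multiples_of_finite (nonZeroDivisors ℤ) f
  choose f' hf' using hb
  have hb0 : (b : ℤ) ≠ 0 := nonZeroDivisors.coe_ne_zero b
  refine isFC_of_fun_int N hN f' ?_ ?_
  · intro h
    apply hf0
    ext x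
    have := hf' x
    rw [h] at this
    simp at this
    simpa [hb0] using this
  · intro h hh x
    have h1 : ∑ i ∈ Finset.range N, (algebraMap ℤ ℚ) (f' (h ^ i * x)) = 0 := by
      simp only [hf', ← Finset.smul_sum, hf h hh x, smul_zero]
    rw [← map_sum] at h1
    exact (map_eq_zero_iff _ (algebraMap ℤ ℚ).injective_int).1 h1

theorem norm_sum_eq_zero {G V : Type*} [Group G] [Finite G] [AddCommGroup V]
    (ρ : G →* AddMonoid.End V) (g : G) (hρ : ∀ v, ρ g v = v → v = 0) (w : V) :
    ∑ i ∈ Finset.range (Nat.card G), ρ (g ^ i) w = 0 := by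
  apply hρ
  rw [map_sum]
  have h1 : ∀ i, ρ g (ρ (g ^ i) w) = ρ (g ^ (i + 1)) w := fun i => by
    rw [pow_succ', map_mul]; rfl
  simp only [h1]
  have h2 := Finset.sum_range_succ (fun i => ρ (g ^ i) w) (Nat.card G)
  rw [Finset.sum_range_succ'] at h2
  simp only [pow_zero, pow_card_eq_one'] at h2
  exact add_right_cancel h2

/-- A fixed-point-free action on a nonzero rational vector space. -/
theorem isFC_of_rat_module {G V : Type*} [Group G] [Finite G] [Nontrivial G] [AddCommGroup V]
    [Module ℚ V] [Nontrivial V]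
    (ρ : G →* AddMonoid.End V) (hρ : ∀ g : G, g ≠ 1 → ∀ v, ρ g v = v → v = 0) : IsFC G := by
  obtain ⟨v, hv⟩ := exists_ne (0 : V)
  obtain ⟨l, hl⟩ := Module.Projective.exists_dual_ne_zero ℚ hv
  refine isFC_of_fun_rat (Nat.card G) Nat.card_pos (fun x => l (ρ x v)) ?_ ?_
  · intro h
    have := congrFun h 1
    simp at this
    exact hl this
  · intro h hh x
    rw [← map_sum]
    have : ∀ i, ρ (h ^ i * x) v = ρ (h ^ i) (ρ x v) := fun i => by rw [map_mul]; rfl
    simp only [this]
    rw [norm_sum_eq_zero ρ h (hρ h hh), map_zero]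

/-- A fixed-point-free action on a nonzero torsion abelian group. -/
theorem isFC_of_torsion {G V : Type*} [Group G] [Finite G] [Nontrivial G] [AddCommGroup V]
    [Nontrivial V] (hV : IsAddTorsion V)
    (ρ : G →* AddMonoid.End V) (hρ : ∀ g : G, g ≠ 1 → ∀ v, ρ g v = v → v = 0) : IsFC G := by
  obtain ⟨v, hv⟩ := exists_ne (0 : V)
  let W : AddSubgroup V := AddSubgroup.closure (Set.range fun g => ρ g v)
  have : Finite (Set.range fun g => ρ g v) := Set.finite_range _
  have : AddGroup.FG W := AddGroup.closure_finite_fg _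
  have : Finite W := AddCommGroup.finite_of_fg_isAddTorsion W (hV.addSubgroup W)
  refine (isFCI_of_addSubgroup ρ W ?_ ?_ fun g hg v _ => hρ g hg v).isFC
  · intro h
    have : v ∈ W := AddSubgroup.subset_closure ⟨1, by simp⟩
    rw [h, AddSubgroup.mem_bot] at this
    exact hv this
  · intro g w hw
    induction hw using AddSubgroup.closure_induction with
    | mem x hx =>
      obtain ⟨k, rfl⟩ := hx
      exact AddSubgroup.subset_closure ⟨g * k, by simp only [map_mul]; rfl⟩
    | zero => simp
    | add x y _ _ hx hy => rw [map_add]; exact W.add_mem hx hy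
    | neg x _ hx => rw [map_neg]; exact W.neg_mem hx

/-- A fixed-point-free action on a nonzero module over a division ring. -/
theorem isFC_of_module (D : Type*) [DivisionRing D] {G V : Type*} [Group G] [Finite G]
    [Nontrivial G] [AddCommGroup V] [Module D V] [Nontrivial V]
    (ρ : G →* AddMonoid.End V) (hρ : ∀ g : G, g ≠ 1 → ∀ v, ρ g v = v → v = 0) : IsFC G := by
  obtain ⟨p, hp⟩ := CharP.exists D
  rcases CharP.char_is_prime_or_zero D p with h | rfl
  · refine isFC_of_torsion ?_ ρ hρ
    intro v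
    rw [isOfFinAddOrder_iff_nsmul_eq_zero]
    refine ⟨p, h.pos, ?_⟩
    rw [← Nat.cast_smul_eq_nsmul D, CharP.cast_eq_zero, zero_smul]
  · have := CharP.charP_to_charZero D
    let : Module ℚ V := Module.compHom V (Rat.castHom D)
    exact isFC_of_rat_module ρ hρ

end CfsgLib.FrobCompl
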