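import Mathlib

set_option autoImplicit false

/-!
Lifting fixed-point-free representations from characteristic `p` to characteristic zero.
`NormSol f` says that the function `f` on `G` sums to zero along the right cosets of all
non-trivial cyclic subgroups; the solutions form a fixed-point-free module.
-/

namespace CfsgLib.FrobCompl

open MonoidAlgebra

/-- `f` is annihilated by the norm elements of all non-trivial cyclic subgroups. -/
def NormSol {G : Type*} [Group G] {R : Type*} [AddCommMonoid R] (f : G → R) : Prop :=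
  ∀ h : G, h ≠ 1 → ∀ x, ∑ i ∈ Finset.range (Nat.card G), f (h ^ i * x) = 0

/-- An integral linear system with a solution modulo every power of `p` that is non-zero modulo `p`
has a non-zero integral solution. -/
theorem exists_int_kernel {m n : Type*} [Fintype m] [Fintype n] (M : Matrix m n ℤ) {p : ℕ}
    (hp : p.Prime) (h : ∀ k : ℕ, ∃ v : n → ℤ, (∀ i, ((p : ℤ) ^ k) ∣ M.mulVec v i) ∧
      ∃ j, ¬ (p : ℤ) ∣ v j) : ∃ v : n → ℤ, v ≠ 0 ∧ M.mulVec v = 0 := by
  classical
  by_cases hd : (M.transpose * M).det = 0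
  · obtain ⟨v, hv0, hv⟩ := Matrix.exists_mulVec_eq_zero_iff.mpr hd
    refine ⟨v, hv0, ?_⟩
    have h1 : dotProduct (M.mulVec v) (M.mulVec v) = 0 := by
      rw [Matrix.dotProduct_mulVec, Matrix.vecMul_mulVec, ← Matrix.dotProduct_mulVec, hv,
        dotProduct_zero]
    exact dotProduct_self_eq_zero.mp h1
  exfalso
  have hp' : Prime (p : ℤ) := Nat.prime_iff_prime_int.mp hp
  obtain ⟨k, d, hpd, hkd⟩ := WfDvdMonoid.max_power_factor hd hp'.irreducible
  obtain ⟨v, hv, j, hj⟩ := h (k + 1)
  have h1 : (M.transpose * M).det • v =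
      ((M.transpose * M).adjugate * M.transpose).mulVec (M.mulVec v) := by
    rw [Matrix.mulVec_mulVec, Matrix.mul_assoc, Matrix.adjugate_mul, Matrix.smul_mulVec,
      Matrix.one_mulVec]
  have h2 : (p : ℤ) ^ (k + 1) ∣ (M.transpose * M).det * v j := by
    have := congrFun h1 j
    rw [Pi.smul_apply, smul_eq_mul] at this
    rw [this]
    exact Finset.dvd_sum fun i _ => Dvd.dvd.mul_left (hv i) _
  rw [hkd, pow_succ, mul_assoc, mul_dvd_mul_iff_left (pow_ne_zero _ hp'.ne_zero)] at h2
  rcases hp'.dvd_or_dvd h2 with h3 | h3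
  · exact hpd h3
  · exact hj h3

variable {G : Type*} [Group G]

/-- The norm element of `h` in the group algebra. -/
noncomputable def normElt (R : Type*) [Semiring R] (h : G) : MonoidAlgebra R G :=
  ∑ i ∈ Finset.range (Nat.card G), single (h ^ i) 1

theorem single_mul_normElt [Finite G] {R : Type*} [CommRing R] (h : G) :
    single h 1 * normElt R h = normElt R h := by
  have h2 := Finset.sum_range_succ (fun i => single (h ^ i) (1 : R)) (Nat.card G)
  rw [Finset.sum_range_succ', pow_card_eq_one', pow_zero] at h2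
  rw [normElt, Finset.mul_sum, ← add_right_cancel h2]
  refine Finset.sum_congr rfl fun i _ => ?_
  rw [single_mul_single, one_mul, pow_succ']

theorem normElt_mul_self [Finite G] {R : Type*} [CommRing R] (h : G) :
    normElt R h * normElt R h = (Nat.card G : R) • normElt R h := by
  have key : ∀ i, single (h ^ i) 1 * normElt R h = normElt R h := by
    intro i
    induction i with
    | zero => rw [pow_zero, ← one_def, one_mul]
    | succ i ih =>
      rw [pow_succ, ← one_mul (1 : R), ← single_mul_single, mul_assoc, single_mul_normElt, ih]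
  nth_rewrite 1 [normElt]
  rw [Finset.sum_mul]
  simp only [key, Finset.sum_const, Finset.card_range, Nat.cast_smul_eq_nsmul]

theorem coeff_normElt_mul {R : Type*} [CommRing R] (h : G) (f : MonoidAlgebra R G) (x : G) :
    (normElt R h⁻¹ * f).coeff x = ∑ i ∈ Finset.range (Nat.card G), f.coeff (h ^ i * x) := by
  rw [normElt, Finset.sum_mul, coeff_sum, Finsupp.finsetSum_apply]
  simp

theorem mapRingHom_normElt {R S : Type*} [CommRing R] [CommRing S] (φ : R →+* S) (h : G) :
    mapRingHom G φ (normElt R h) = normElt S h := by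
  simp [normElt]

theorem exists_idem_modular [Finite G] {k : Type*} [Field k] [NeZero (Nat.card G : k)]
    {V : Type*} [AddCommGroup V] [Module k V] [Nontrivial V] (ρ : Representation k G V)
    (hρ : ∀ g : G, g ≠ 1 → ∀ v, ρ g v = v → v = 0) :
    ∃ e : MonoidAlgebra k G, e ≠ 0 ∧ IsIdempotentElem e ∧
      ∀ h : G, h ≠ 1 → ∀ x, normElt k h * x * e = 0 := by
  let A : Ideal (MonoidAlgebra k G) := RingHom.ker ρ.asAlgebraHom
  obtain ⟨I, hI⟩ := exists_isCompl A
  obtain ⟨f, hf, e, he, hfe⟩ := Submodule.mem_sup.mp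
    (show (1 : MonoidAlgebra k G) ∈ A ⊔ I by rw [hI.sup_eq_top]; trivial)
  have hA : ∀ a ∈ A, ∀ x, a * x ∈ A := by
    intro a ha x
    rw [RingHom.mem_ker] at ha ⊢
    rw [map_mul, ha, zero_mul]
  have hkill : ∀ a ∈ A, a * e = 0 := by
    intro a ha
    have h1 : a * e ∈ A ⊓ I := ⟨hA a ha e, I.smul_mem a he⟩
    rwa [hI.inf_eq_bot, Submodule.mem_bot] at h1
  refine ⟨e, ?_, ?_, fun h hh x => hkill _ (hA _ ?_ x)⟩
  · rintro rfl
    rw [add_zero] at hfe
    rw [hfe, RingHom.mem_ker, map_one] at hf
    exact one_ne_zero hf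
  · have := congrArg (· * e) hfe
    simp only [add_mul, hkill f hf, zero_add, one_mul] at this
    exact this
  · rw [RingHom.mem_ker]
    refine LinearMap.ext fun v => hρ h hh _ ?_
    rw [← Module.End.mul_apply, ← Representation.asAlgebraHom_single_one, ← map_mul,
      single_mul_normElt]

theorem exists_int_normSol_of_modular [Finite G] {p : ℕ} [hp : Fact p.Prime]
    (hpG : ¬ p ∣ Nat.card G) {V : Type*} [AddCommGroup V] [Module (ZMod p) V] [Nontrivial V]
    (ρ : Representation (ZMod p) G V) (hρ : ∀ g : G, g ≠ 1 → ∀ v, ρ g v = v → v = 0) :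
    ∃ f : G → ℤ, f ≠ 0 ∧ NormSol f := by
  classical
  have := Fintype.ofFinite G
  have : NeZero (Nat.card G : ZMod p) := ⟨by rwa [Ne, ZMod.natCast_eq_zero_iff]⟩
  obtain ⟨e, he0, he, hek⟩ := exists_idem_modular ρ hρ
  let M : Matrix ({h : G // h ≠ 1} × G) G ℤ := fun r y =>
    ∑ i ∈ Finset.range (Nat.card G), if r.1.1 ^ i * r.2 = y then 1 else 0
  have hM : ∀ (v : G → ℤ) r, M.mulVec v r =
      ∑ i ∈ Finset.range (Nat.card G), v (r.1.1 ^ i * r.2) := by
    intro v r
    simp only [M, Matrix.mulVec, dotProduct, Finset.sum_mul]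
    rw [Finset.sum_comm]
    simp
  suffices h : ∃ v : G → ℤ, v ≠ 0 ∧ M.mulVec v = 0 by
    obtain ⟨v, hv0, hv⟩ := h
    exact ⟨v, hv0, fun h hh x => by rw [← hM v (⟨h, hh⟩, x), hv]; rfl⟩
  refine exists_int_kernel M hp.out fun k => ?_
  let R := ZMod (p ^ (k + 1))
  let π : R →+* ZMod p := ZMod.castHom (dvd_pow_self p (Nat.succ_ne_zero k)) (ZMod p)
  have hπ : ∀ r : R, π r = 0 → ∃ s : R, r = p * s := by
    intro r hr
    obtain ⟨a, rfl⟩ := ZMod.intCast_surjective r
    rw [map_intCast, ZMod.intCast_zmod_eq_zero_iff_dvd] at hr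
    obtain ⟨b, rfl⟩ := hr
    exact ⟨b, by push_cast; rfl⟩
  have hker : ∀ x : MonoidAlgebra R G, mapRingHom G π x = 0 → ∃ y, x = (p : R) • y := by
    intro x hx
    choose s hs using fun g => hπ (x.coeff g) (by rw [← coeff_mapRingHom, hx]; rfl)
    refine ⟨ofCoeff (Finsupp.equivFunOnFinite.symm s), ?_⟩
    ext g
    rw [hs]
    simp
  have hpk : (p : R) ^ (k + 1) = 0 := by
    rw [← Nat.cast_pow]
    exact ZMod.natCast_self _
  obtain ⟨ê, hê, hêe⟩ := exists_isIdempotentElem_eq_of_ker_isNilpotent (mapRingHom G π) (by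
    intro x hx
    obtain ⟨y, rfl⟩ := hker x hx
    exact ⟨k + 1, by rw [smul_pow, hpk, zero_smul]⟩) e (by
      choose s hs using fun g => ZMod.castHom_surjective (dvd_pow_self p (Nat.succ_ne_zero k))
        (e.coeff g)
      refine ⟨ofCoeff (Finsupp.equivFunOnFinite.symm s), ?_⟩
      ext g
      rw [coeff_mapRingHom, ← hs]
      rfl) he
  obtain ⟨c, hc⟩ : ∃ c : R, c * (Nat.card G : R) = 1 := by
    have : IsUnit (Nat.card G : R) := by
      rw [ZMod.isUnit_iff_coprime]
      exact ((hp.out.coprime_iff_not_dvd.mpr hpG).symm).pow_right _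
    exact ⟨_, this.val_inv_mul⟩
  have hkill : ∀ h : G, h ≠ 1 → normElt R h * ê = 0 := by
    intro h hh
    have key : ∀ (j : ℕ) x, ∃ y, normElt R h * x * ê = (p : R) ^ j • (normElt R h * y * ê) := by
      intro j
      induction j with
      | zero => exact fun x => ⟨x, by simp⟩
      | succ j ih =>
        intro x
        obtain ⟨y, hy⟩ := ih x
        obtain ⟨w, hw⟩ := hker (normElt R h * y * ê) (by
          rw [map_mul, map_mul, mapRingHom_normElt, hêe, hek h hh])
        refine ⟨c • w, ?_⟩
        have h1 : normElt R h * y * ê = c • (normElt R h * (normElt R h * y * ê) * ê) := by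
          rw [← mul_assoc, ← mul_assoc, normElt_mul_self, mul_assoc _ ê ê, hê.eq, smul_mul_assoc,
            smul_mul_assoc, smul_smul, hc, one_smul]
        rw [hy, h1, hw, pow_succ (p : R) j, mul_smul]
        congr 1
        simp only [mul_smul_comm, smul_mul_assoc]
        rw [smul_comm]
    obtain ⟨y, hy⟩ := key (k + 1) 1
    rw [hpk, zero_smul, mul_one] at hy
    exact hy
  choose v hv using fun g => ZMod.intCast_surjective (ê.coeff g)
  refine ⟨v, fun r => ?_, ?_⟩
  · refine (pow_dvd_pow _ (Nat.le_succ k)).trans ?_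
    rw [hM, ← Nat.cast_pow, ← ZMod.intCast_zmod_eq_zero_iff_dvd]
    push_cast
    simp only [hv]
    rw [← coeff_normElt_mul, hkill _ (inv_ne_one.mpr r.1.2)]
    rfl
  · by_contra hcon
    push Not at hcon
    apply he0
    rw [← hêe]
    ext g
    rw [coeff_mapRingHom, ← hv, map_intCast, (ZMod.intCast_zmod_eq_zero_iff_dvd _ _).mpr (hcon g)]
    rfl

/-- A non-zero integral solution gives a fixed-point-free representation over every field of
characteristic zero. -/
theorem exists_rep_of_normSol [Finite G] {f : G → ℤ} (hf0 : f ≠ 0) (hf : NormSol f) (F : Type*)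
    [Field F] [CharZero F] : ∃ (n : ℕ) (ρ : Representation F G (Fin n → F)), 0 < n ∧
      ∀ g : G, g ≠ 1 → ∀ v, ρ g v = v → v = 0 := by
  let S : Submodule F (G → F) :=
    { carrier := {u | NormSol u}
      add_mem' := fun {a b} ha hb h hh x => by
        simp only [Pi.add_apply, Finset.sum_add_distrib, ha h hh x, hb h hh x, add_zero]
      zero_mem' := fun h hh x => by simp
      smul_mem' := fun c a ha h hh x => by
        simp only [Pi.smul_apply, ← Finset.smul_sum, ha h hh x, smul_zero] }
  have hS : ∀ (g : G) (u : S), (fun x => u.1 (g⁻¹ * x)) ∈ S := by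
    intro g u h hh x
    have := u.2 (g⁻¹ * h * g⁻¹⁻¹) (by rwa [Ne, conj_eq_one_iff]) (g⁻¹ * x)
    simp only [conj_pow] at this
    simpa only [mul_assoc, inv_inv, mul_inv_cancel_left] using this
  let σ : Representation F G S :=
    { toFun := fun g =>
        { toFun := fun u => ⟨fun x => u.1 (g⁻¹ * x), hS g u⟩
          map_add' := fun _ _ => rfl
          map_smul' := fun _ _ => rfl }
      map_one' := by ext u x; simp
      map_mul' := fun g h => by ext u x; simp [mul_assoc] }
  have hσ : ∀ g : G, g ≠ 1 → ∀ u, σ g u = u → u = 0 := by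
    intro g hg u hu
    have h1 : ∀ x, u.1 (g⁻¹ * x) = u.1 x := fun x => congrFun (congrArg Subtype.val hu) x
    have h2 : ∀ (i : ℕ) x, u.1 (g⁻¹ ^ i * x) = u.1 x := by
      intro i x
      induction i with
      | zero => simp
      | succ i ih => rw [pow_succ', mul_assoc, h1, ih]
    ext x
    have h3 := u.2 g⁻¹ (inv_ne_one.mpr hg) x
    simp only [h2, Finset.sum_const, Finset.card_range, nsmul_eq_mul, mul_eq_zero,
      Nat.cast_eq_zero, Nat.card_pos.ne', false_or] at h3
    exact h3
  have hne : Nontrivial S := by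
    refine ⟨⟨⟨fun x => (f x : F), fun h hh x => by
      simpa using congrArg (Int.cast (R := F)) (hf h hh x)⟩, 0, fun h => hf0 ?_⟩⟩
    ext x
    have := congrFun (congrArg Subtype.val h) x
    simpa using this
  let e : S ≃ₗ[F] (Fin (Module.finrank F S) → F) := (Module.finBasis F S).equivFun
  refine ⟨Module.finrank F S, (e.conjRingEquiv.toMonoidHom).comp σ, Module.finrank_pos, ?_⟩
  intro g hg v hv
  have h1 : σ g (e.symm v) = e.symm v := by
    apply e.injective
    rw [e.apply_symm_apply]
    exact hv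
  rw [← e.apply_symm_apply v, hσ g hg _ h1, map_zero]

end CfsgLib.FrobCompl
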