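import Cfsg.Agent.Lib.FrobCompl.Reduce
import Cfsg.Agent.Lib.Perm.MultiTransHuppert

/-!
# Linear groups regular on the non-zero vectors
-/

set_option autoImplicit false

namespace CfsgLib.FrobCompl

open Subgroup

variable {V G : Type*} [AddCommGroup V] [Group G] [DistribMulAction G V]

/-- Regular on non-zero vectors. -/
def Reg (G V : Type*) [AddCommGroup V] [Group G] [DistribMulAction G V] : Prop :=
  ∀ v w : V, v ≠ 0 → w ≠ 0 → ∃! g : G, g • v = w

namespace Reg

theorem trans (h : Reg G V) : ∀ v w : V, v ≠ 0 → w ≠ 0 → ∃ g : G, g • v = w :=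
  fun v w hv hw => (h v w hv hw).exists

theorem free (h : Reg G V) {g : G} {v : V} (hv : v ≠ 0) (e : g • v = v) : g = 1 :=
  (h v v hv hv).unique e (one_smul G v)

theorem finite (h : Reg G V) [Finite V] [Nontrivial V] : Finite G := by
  obtain ⟨v, hv⟩ := exists_ne (0 : V)
  exact Finite.of_injective (fun g : G => g • v) fun g g' e =>
    (h v _ hv ((smul_ne_zero_iff_ne g').2 hv)).unique e rfl

theorem card_eq (h : Reg G V) [Finite V] [Nontrivial V] : Nat.card G + 1 = Nat.card V := by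
  obtain ⟨v, hv⟩ := exists_ne (0 : V)
  have := h.finite
  rw [← Finite.card_option]
  refine Nat.card_congr (Equiv.ofBijective (fun x => x.elim 0 (· • v)) ⟨?_, fun w => ?_⟩)
  · rintro (_ | g) (_ | g') e
    · rfl
    · exact absurd e.symm ((smul_ne_zero_iff_ne g').2 hv)
    · exact absurd e ((smul_ne_zero_iff_ne g).2 hv)
    · exact congrArg some ((h v _ hv ((smul_ne_zero_iff_ne g').2 hv)).unique e rfl)
  · by_cases hw : w = 0
    · exact ⟨none, hw.symm⟩
    · obtain ⟨g, hg⟩ := h.trans v w hv hw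
      exact ⟨some g, hg⟩

theorem hasFree (h : Reg G V) {p : ℕ} [Fact p.Prime] [Module (ZMod p) V] [Finite V]
    [Nontrivial V] : HasFree ℂ G :=
  haveI := h.finite
  hasFree_of_module (ZMod p) (DistribMulAction.toAddMonoidEnd G V) fun _ hg _ e =>
    by_contra fun hv => hg (h.free hv e)

theorem card_dvd (h : Reg G V) [Finite V] (A : Subgroup G) (W : AddSubgroup V)
    (hW : ∀ a ∈ A, ∀ w ∈ W, a • w ∈ W) : Nat.card A ∣ Nat.card W - 1 := by
  have := Perm.card_dvd_of_free_on A ((W : Set V) \ {0})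
    (fun a ha w hw => ⟨hW a ha w hw.1, (smul_ne_zero_iff_ne a).2 hw.2⟩)
    fun a _ w hw e => h.free hw.2 e
  rwa [Set.ncard_diff_singleton_of_mem W.zero_mem] at this

theorem sq_le (h : Reg G V) [Finite V] (A : Subgroup G) (W : AddSubgroup V) (h0 : W ≠ ⊥)
    (h1 : W ≠ ⊤) (hW : ∀ a ∈ A, ∀ w ∈ W, a • w ∈ W) : (Nat.card A + 1) ^ 2 ≤ Nat.card V := by
  have h2 := h.card_dvd A W hW
  have h3 := h.card_dvd A ⊤ fun _ _ _ _ => trivial
  have h4 := W.card_mul_index
  have h5 : 1 < Nat.card W := (W.one_lt_card_iff_ne_bot).2 h0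
  have h6 : 1 < W.index := AddSubgroup.one_lt_index_of_ne_top h1
  rw [AddSubgroup.card_top, ← h4] at h3
  obtain ⟨a, ha⟩ := Nat.exists_eq_add_of_lt h5
  obtain ⟨b, hb⟩ := Nat.exists_eq_add_of_lt h6
  rw [← h4]
  rw [ha, hb] at h3 ⊢
  rw [ha] at h2
  rw [show (1 + a + 1) * (1 + b + 1) - 1 = (1 + a + 1 - 1) * (1 + b + 1) + (b + 1) by
    rw [Nat.add_sub_cancel, Nat.sub_eq_iff_eq_add (by nlinarith)]; ring] at h3
  have h7 := Nat.le_of_dvd (by omega) ((Nat.dvd_add_right (h2.mul_right _)).1 h3)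
  have h8 := Nat.le_of_dvd (by omega) h2
  rw [sq]
  exact Nat.mul_le_mul (by omega) (by omega)

theorem false_of_index_le (h : Reg G V) [Finite V] (A : Subgroup G) (W : AddSubgroup V)
    (h0 : W ≠ ⊥) (h1 : W ≠ ⊤) (hW : ∀ a ∈ A, ∀ w ∈ W, a • w ∈ W) {d : ℕ} (hd : A.index ≤ d)
    (hV : 2 ^ d ≤ Nat.card V) : False := by
  have : Nontrivial V := by
    by_contra hn
    exact h0 (by rw [not_nontrivial_iff_subsingleton] at hn; exact Subsingleton.elim _ _)
  have := h.finite
  have h2 := h.sq_le A W h0 h1 hW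
  have h3 := h.card_eq
  have h4 : ∀ d : ℕ, (d + 1) ^ 2 < 2 ^ (d + 2) := fun d => by
    induction d with
    | zero => norm_num
    | succ d ih => rw [pow_succ 2]; have := d.lt_two_pow_self; rw [pow_add] at ih ⊢; nlinarith
  have h5 := A.card_mul_index
  have h6 := Nat.mul_le_mul_left (Nat.card A) hd
  have h7 : 0 < Nat.card A := Nat.card_pos
  have h8 : Nat.card A + 2 ≤ d := by nlinarith
  obtain ⟨d, rfl⟩ := Nat.exists_eq_add_of_le' (show 2 ≤ d by omega)
  have := h4 d
  nlinarith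

end Reg

theorem two_pow_le_card {K : Type*} [Field K] [Fintype K] {V : Type*} [AddCommGroup V]
    [Module K V] [Finite V] [Nontrivial V] {G : Type*} [Group G] (σ : G →* RingAut K) :
    ∃ d, σ.ker.index ≤ d ∧ 2 ^ d ≤ Nat.card V := by
  obtain ⟨p, _, ⟨d, hd⟩, hp, hK⟩ := FiniteField.card' K
  rw [PNat.mk_coe] at hK
  have : Finite (RingAut K) := Finite.of_injective (fun f : RingAut K => (f : K → K))
    DFunLike.coe_injective
  refine ⟨d, ?_, ?_⟩
  · rw [index_ker]
    exact (card_le_card_group _).trans (Perm.card_ringAut_le hp hK)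
  · rw [Module.natCard_eq_pow_finrank (K := K), Nat.card_eq_fintype_card, hK]
    exact (Nat.pow_le_pow_left hp.two_le d).trans
      (Nat.le_self_pow (Module.finrank_pos (R := K) (M := V)).ne' _)

end CfsgLib.FrobCompl
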