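import Mathlib

/-!
# Quaternion coordinates in a rational algebra containing quaternion units
-/

set_option autoImplicit false

namespace CfsgLib.FrobCompl

section Cancel

variable {R : Type*} [Ring R] [Algebra ℚ R]

theorem isUnit_ofNat' (n : ℕ) [n.AtLeastTwo] : IsUnit (ofNat(n) : R) := by
  have h : IsUnit (ofNat(n) : ℚ) := IsUnit.mk0 _ (OfNat.ofNat_ne_zero n)
  have h2 := h.map (algebraMap ℚ R)
  rwa [map_ofNat] at h2

theorem cancel_nat (n : ℕ) [n.AtLeastTwo] {x y : R} (h : ofNat(n) * x = ofNat(n) * y) : x = y :=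
  (isUnit_ofNat' n).mul_left_cancel h

theorem false_of_nat [Nontrivial R] (n : ℕ) [n.AtLeastTwo] (h : (ofNat(n) : R) = 0) : False :=
  (isUnit_ofNat' n).ne_zero h

end Cancel

variable {A : Type*} [Ring A] [Algebra ℚ A]

/-- Quaternion units. -/
structure QU (I J : A) : Prop where
  ii : I * I = -1
  jj : J * J = -1
  ji : J * I = -(I * J)

/-- The centraliser of the quaternion units. -/
def QC (I J : A) : Type _ := Subalgebra.centralizer ℚ ({I, J} : Set A)

instance QC.instRing (I J : A) : Ring (QC I J) :=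
  inferInstanceAs (Ring (Subalgebra.centralizer ℚ ({I, J} : Set A)))

instance QC.instAlgebra (I J : A) : Algebra ℚ (QC I J) :=
  inferInstanceAs (Algebra ℚ (Subalgebra.centralizer ℚ ({I, J} : Set A)))

instance QC.instNontrivial (I J : A) [Nontrivial A] : Nontrivial (QC I J) :=
  inferInstanceAs (Nontrivial (Subalgebra.centralizer ℚ ({I, J} : Set A)))

/-- The inclusion of the centraliser. -/
@[coe] def QC.val {I J : A} (x : QC I J) : A :=
  Subtype.val (x : Subalgebra.centralizer ℚ ({I, J} : Set A))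

instance QC.instCoeOut (I J : A) : CoeOut (QC I J) A := ⟨QC.val⟩

/-- An element commuting with the quaternion units. -/
def QC.mk {I J : A} (x : A) (h : I * x = x * I ∧ J * x = x * J) : QC I J :=
  (⟨x, by
    rintro g (rfl | rfl)
    exacts [h.1, h.2]⟩ : Subalgebra.centralizer ℚ ({I, J} : Set A))

theorem QC.coe_mk {I J : A} (x : A) (h : I * x = x * I ∧ J * x = x * J) :
    (QC.mk x h : A) = x := rfl

theorem QC.ext {I J : A} {x y : QC I J} (h : (x : A) = y) : x = y := Subtype.ext h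

theorem QC.coe_add {I J : A} (x y : QC I J) : ((x + y : QC I J) : A) = x + y := rfl
theorem QC.coe_sub {I J : A} (x y : QC I J) : ((x - y : QC I J) : A) = x - y := rfl
theorem QC.coe_mul {I J : A} (x y : QC I J) : ((x * y : QC I J) : A) = x * y := rfl
theorem QC.coe_neg {I J : A} (x : QC I J) : ((-x : QC I J) : A) = -x := rfl
theorem QC.coe_zero {I J : A} : ((0 : QC I J) : A) = 0 := rfl
theorem QC.coe_one {I J : A} : ((1 : QC I J) : A) = 1 := rfl
theorem QC.coe_ofNat {I J : A} (n : ℕ) [n.AtLeastTwo] :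
    ((ofNat(n) : QC I J) : A) = ofNat(n) := rfl

/-- The element with the given quaternion coordinates. -/
def qq (I J : A) (x0 x1 x2 x3 : QC I J) : A :=
  x0 + x1 * I + x2 * J + x3 * (I * J)

variable {I J : A}

theorem QC.comm_i (x : QC I J) : I * x = x * I :=
  (x : Subalgebra.centralizer ℚ ({I, J} : Set A)).2 I (by simp)

theorem QC.comm_j (x : QC I J) : J * x = x * J :=
  (x : Subalgebra.centralizer ℚ ({I, J} : Set A)).2 J (by simp)

theorem qq_add (x0 x1 x2 x3 y0 y1 y2 y3 : QC I J) :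
    qq I J x0 x1 x2 x3 + qq I J y0 y1 y2 y3 = qq I J (x0 + y0) (x1 + y1) (x2 + y2) (x3 + y3) := by
  simp only [qq, QC.coe_add]
  grind

theorem qq_neg (x0 x1 x2 x3 : QC I J) :
    -qq I J x0 x1 x2 x3 = qq I J (-x0) (-x1) (-x2) (-x3) := by
  simp only [qq, QC.coe_neg]
  grind

theorem qq_sub (x0 x1 x2 x3 y0 y1 y2 y3 : QC I J) :
    qq I J x0 x1 x2 x3 - qq I J y0 y1 y2 y3 = qq I J (x0 - y0) (x1 - y1) (x2 - y2) (x3 - y3) := by
  simp only [qq, QC.coe_sub]
  grind

theorem qq_coe (x : QC I J) : (x : A) = qq I J x 0 0 0 := by simp [qq, QC.coe_zero, QC.coe_one]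

theorem qq_ofNat (n : ℕ) [n.AtLeastTwo] : (ofNat(n) : A) = qq I J ofNat(n) 0 0 0 :=
  qq_coe (I := I) (J := J) ofNat(n)

theorem qq_one : (1 : A) = qq I J 1 0 0 0 := by simp [qq, QC.coe_zero, QC.coe_one]

theorem qq_zero : (0 : A) = qq I J 0 0 0 0 := by simp [qq, QC.coe_zero, QC.coe_one]

theorem qq_i : I = qq I J 0 1 0 0 := by simp [qq, QC.coe_zero, QC.coe_one]

theorem qq_j : J = qq I J 0 0 1 0 := by simp [qq, QC.coe_zero, QC.coe_one]

theorem qq_k : I * J = qq I J 0 0 0 1 := by simp [qq, QC.coe_zero, QC.coe_one]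

theorem coe_mul_qq (a x0 x1 x2 x3 : QC I J) :
    (a : A) * qq I J x0 x1 x2 x3 = qq I J (a * x0) (a * x1) (a * x2) (a * x3) := by
  simp only [qq, QC.coe_mul]
  grind

theorem ofNat_mul_qq (n : ℕ) [n.AtLeastTwo] (x0 x1 x2 x3 : QC I J) :
    (ofNat(n) : A) * qq I J x0 x1 x2 x3 =
      qq I J (ofNat(n) * x0) (ofNat(n) * x1) (ofNat(n) * x2) (ofNat(n) * x3) :=
  coe_mul_qq ofNat(n) x0 x1 x2 x3

theorem QU.i_mul (h : QU I J) (x0 x1 x2 x3 : QC I J) :
    I * qq I J x0 x1 x2 x3 = qq I J (-x1) x0 (-x3) x2 := by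
  simp only [qq, QC.coe_neg]
  linear_combination (norm := (clear * -; grind)) QC.comm_i x0 + QC.comm_i x1 * I + QC.comm_i x2 * J +
    QC.comm_i x3 * I * J + (x1 : A) * h.ii + (x3 : A) * h.ii * J

theorem QU.j_mul (h : QU I J) (x0 x1 x2 x3 : QC I J) :
    J * qq I J x0 x1 x2 x3 = qq I J (-x2) x3 x0 (-x1) := by
  simp only [qq, QC.coe_neg]
  linear_combination (norm := (clear * -; grind)) QC.comm_j x0 + QC.comm_j x1 * I + QC.comm_j x2 * J +
    QC.comm_j x3 * I * J + (x1 : A) * h.ji + (x2 : A) * h.jj + (x3 : A) * h.ji * J -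
    (x3 : A) * I * h.jj

theorem QU.mul (h : QU I J) (x0 x1 x2 x3 y0 y1 y2 y3 : QC I J) :
    qq I J x0 x1 x2 x3 * qq I J y0 y1 y2 y3 =
      qq I J (x0 * y0 - x1 * y1 - x2 * y2 - x3 * y3) (x0 * y1 + x1 * y0 + x2 * y3 - x3 * y2)
        (x0 * y2 - x1 * y3 + x2 * y0 + x3 * y1) (x0 * y3 + x1 * y2 - x2 * y1 + x3 * y0) := by
  have e : qq I J x0 x1 x2 x3 * qq I J y0 y1 y2 y3 = x0 * qq I J y0 y1 y2 y3 +
      x1 * (I * qq I J y0 y1 y2 y3) + x2 * (J * qq I J y0 y1 y2 y3) +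
      x3 * (I * (J * qq I J y0 y1 y2 y3)) := by
    generalize qq I J y0 y1 y2 y3 = Y
    simp only [qq]
    grind
  rw [e, h.j_mul, h.i_mul, h.i_mul, coe_mul_qq, coe_mul_qq, coe_mul_qq, coe_mul_qq, qq_add, qq_add,
    qq_add]
  congr 1 <;> (clear * -; grind)

theorem QU.mul_i (h : QU I J) (x0 x1 x2 x3 : QC I J) :
    qq I J x0 x1 x2 x3 * I = qq I J (-x1) x0 x3 (-x2) := by
  have := h.mul x0 x1 x2 x3 0 1 0 0
  rw [← qq_i] at this
  rw [this]
  congr 1 <;> (clear * -; grind)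

theorem QU.mul_j (h : QU I J) (x0 x1 x2 x3 : QC I J) :
    qq I J x0 x1 x2 x3 * J = qq I J (-x2) (-x3) x0 x1 := by
  have := h.mul x0 x1 x2 x3 0 0 1 0
  rw [← qq_j] at this
  rw [this]
  congr 1 <;> (clear * -; grind)

theorem QU.eq_zero0 (h : QU I J) {x0 x1 x2 x3 : QC I J} (e : qq I J x0 x1 x2 x3 = 0) : x0 = 0 := by
  have e1 : I * qq I J x0 x1 x2 x3 * I = 0 := by rw [e, mul_zero, zero_mul]
  have e2 : J * qq I J x0 x1 x2 x3 * J = 0 := by rw [e, mul_zero, zero_mul]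
  have e3 : I * (J * qq I J x0 x1 x2 x3 * J) * I = 0 := by rw [e2, mul_zero, zero_mul]
  rw [h.j_mul, h.mul_j, h.i_mul, h.mul_i] at e3
  rw [h.i_mul, h.mul_i] at e1
  rw [h.j_mul, h.mul_j] at e2
  simp only [qq, QC.coe_neg, neg_neg] at e e1 e2 e3
  refine QC.ext (cancel_nat 4 ?_)
  rw [QC.coe_zero]
  linear_combination (norm := (clear * -; grind)) e - e1 - e2 + e3

theorem QU.eq_zero (h : QU I J) {x0 x1 x2 x3 : QC I J} (e : qq I J x0 x1 x2 x3 = 0) :
    x0 = 0 ∧ x1 = 0 ∧ x2 = 0 ∧ x3 = 0 := by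
  have e1 : I * qq I J x0 x1 x2 x3 = 0 := by rw [e, mul_zero]
  have e2 : J * qq I J x0 x1 x2 x3 = 0 := by rw [e, mul_zero]
  have e3 : I * (J * qq I J x0 x1 x2 x3) = 0 := by rw [e2, mul_zero]
  rw [h.j_mul, h.i_mul] at e3
  rw [h.i_mul] at e1
  rw [h.j_mul] at e2
  exact ⟨h.eq_zero0 e, neg_eq_zero.1 (h.eq_zero0 e1), neg_eq_zero.1 (h.eq_zero0 e2),
    neg_eq_zero.1 (h.eq_zero0 e3)⟩

theorem QU.inj (h : QU I J) {x0 x1 x2 x3 y0 y1 y2 y3 : QC I J}
    (e : qq I J x0 x1 x2 x3 = qq I J y0 y1 y2 y3) : x0 = y0 ∧ x1 = y1 ∧ x2 = y2 ∧ x3 = y3 := by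
  rw [← sub_eq_zero, qq_sub] at e
  simpa only [sub_eq_zero] using h.eq_zero e

omit [Algebra ℚ A] in
theorem QU.avg_mem (h : QU I J) (y : A) :
    I * (y - I * y * I - J * y * J + I * (J * y * J) * I) =
      (y - I * y * I - J * y * J + I * (J * y * J) * I) * I ∧
    J * (y - I * y * I - J * y * J + I * (J * y * J) * I) =
      (y - I * y * I - J * y * J + I * (J * y * J) * I) * J := by
  constructor
  · linear_combination (norm := (clear * -; grind)) -h.ii * y * I + I * y * h.ii + h.ii * J * y * J * I -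
      I * J * y * J * h.ii
  · linear_combination (norm := (clear * -; grind)) - h.jj * y * J + J * y * h.jj - h.ji * y * I +
      h.ji * J * y * J * I - I * h.jj * y * J * I + I * y * h.ji - I * J * y * h.ji * J +
      I * J * y * I * h.jj

theorem QU.surj (h : QU I J) (y : A) : ∃ x0 x1 x2 x3 : QC I J, y = qq I J x0 x1 x2 x3 := by
  refine ⟨(4⁻¹ : ℚ) • QC.mk _ (h.avg_mem y), -((4⁻¹ : ℚ) • QC.mk _ (h.avg_mem (y * I))),
    -((4⁻¹ : ℚ) • QC.mk _ (h.avg_mem (y * J))), -((4⁻¹ : ℚ) • QC.mk _ (h.avg_mem (y * (I * J)))),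
    cancel_nat 4 ?_⟩
  have h4 : ∀ x : QC I J, (4 : QC I J) * ((4⁻¹ : ℚ) • x) = x := fun x => by
    rw [mul_smul_comm, show (4 : QC I J) * x = (4 : ℚ) • x by
      rw [Algebra.smul_def, map_ofNat], smul_smul]
    norm_num
  rw [ofNat_mul_qq]
  simp only [mul_neg, h4]
  simp only [qq, QC.coe_neg, QC.coe_mk]
  linear_combination (norm := (clear * -; grind)) y * h.ii + 2 * y * h.jj - I * y * h.ii * I -
    J * y * h.jj * J + y * h.ji * I * J - y * J * h.ii * J - I * y * h.ji * J +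
    2 * I * y * I * h.jj - J * y * h.ji * I + J * y * J * h.ii - I * J * y * h.ji -
    I * y * I * J * h.ii * J + I * J * y * I * J * h.ii + I * J * y * h.jj * I * J -
    J * y * I * h.jj * I * J + J * y * h.ii * J + I * J * y * I * J * J * h.ii * J -
    I * J * y * I * h.jj * J

end CfsgLib.FrobCompl
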