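import Mathlib
import Cfsg.Agent.Lib.FrobCompl.Lift
import Cfsg.Agent.Lib.FrobCompl.Basic
import Cfsg.Agent.Lib.Frob.Thompson
import Cfsg.Agent.Lib.Frob.Action

/-!
# Frobenius complements have fixed-point-free representations in characteristic zero
-/

set_option autoImplicit false

namespace CfsgLib.FrobCompl

open Subgroup

/-- `G` has a non-zero integral solution of its norm equations. -/
def HasNS (G : Type*) [Group G] : Prop := ∃ f : G → ℤ, f ≠ 0 ∧ NormSol f

/-- `G` has a fixed-point-free representation over `F`. -/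
def HasFree (F : Type*) [Field F] (G : Type*) [Group G] : Prop :=
  ∃ (n : ℕ) (ρ : Representation F G (Fin n → F)), 0 < n ∧
    ∀ g : G, g ≠ 1 → ∀ v, ρ g v = v → v = 0

variable {G : Type*} [Group G]

theorem coprime_card_of_action [Finite G] {K : Type*} [Group K] [Finite K] (φ : G →* MulAut K)
    (hφ : ∀ g, g ≠ 1 → ∀ v, φ g v = v → v = 1) : (Nat.card G).Coprime (Nat.card K) := by
  have : Finite (K ⋊[φ] G) := Finite.of_equiv _ SemidirectProduct.equivProd.symm
  have := Frob.semidirect_normal φ
  have h := Frob.coprime_card_of_fpf le_normalizer_of_normal (Frob.semidirect_fpf φ hφ)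
  rw [← Nat.card_congr (MonoidHom.ofInjective (SemidirectProduct.inl_injective (φ := φ))).toEquiv,
    ← Nat.card_congr (MonoidHom.ofInjective (SemidirectProduct.inr_injective (φ := φ))).toEquiv] at h
  first | exact h | exact h.symm

theorem hasNS_of_addEnd [Finite G] {p : ℕ} [Fact p.Prime] (hpG : ¬ p ∣ Nat.card G) {V : Type*}
    [AddCommGroup V] [Nontrivial V] (inst : Module (ZMod p) V) (a : G →* AddMonoid.End V)
    (ha : ∀ g : G, g ≠ 1 → ∀ v, a g v = v → v = 0) : HasNS G := by
  let ρ : Representation (ZMod p) G V :=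
    { toFun := fun g => AddMonoidHom.toZModLinearMap p (a g)
      map_one' := by rw [map_one]; rfl
      map_mul' := fun g h => by rw [map_mul]; rfl }
  exact exists_int_normSol_of_modular hpG ρ ha

theorem hasNS_of_commGroup [Finite G] {W : Type*} [CommGroup W] [Finite W] [Nontrivial W]
    (φ : G →* MulAut W) (hφ : ∀ g, g ≠ 1 → ∀ v, φ g v = v → v = 1) : HasNS G := by
  obtain ⟨p, hp, hd⟩ := Nat.exists_prime_and_dvd (Finite.one_lt_card (α := W)).ne'
  have := Fact.mk hp
  have hpG : ¬ p ∣ Nat.card G := fun h =>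
    hp.ne_one (Nat.eq_one_of_dvd_coprimes (coprime_card_of_action φ hφ) h hd)
  let U : Subgroup W := (powMonoidHom p : W →* W).ker
  have hU : ∀ w : W, w ∈ U ↔ w ^ p = 1 := fun w => Iff.rfl
  have hmap : ∀ (g : G) (w : W), w ∈ U → φ g w ∈ U := fun g w hw => by
    rw [hU] at hw ⊢
    rw [← map_pow, hw, map_one]
  have hp0 : ∀ x : Additive U, p • x = 0 := fun x => by
    have : (x.toMul) ^ p = 1 := Subtype.ext ((hU _).1 x.toMul.2)
    exact this
  obtain ⟨w, hw⟩ := exists_prime_orderOf_dvd_card' (G := W) p hd
  have : Nontrivial (Additive U) := by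
    refine ⟨⟨Additive.ofMul ⟨w, (hU w).2 (hw ▸ pow_orderOf_eq_one w)⟩, 0, fun h => ?_⟩⟩
    have h1 : w = 1 := congrArg (fun x : Additive U => (x.toMul : W)) h
    rw [h1, orderOf_one] at hw
    exact hp.ne_one hw.symm
  let a : G → Additive U →+ Additive U := fun g =>
    { toFun := fun x => Additive.ofMul ⟨φ g x.toMul, hmap g _ x.toMul.2⟩
      map_zero' := by
        apply Additive.toMul.injective
        exact Subtype.ext (map_one (φ g))
      map_add' := fun x y => by
        apply Additive.toMul.injective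
        exact Subtype.ext (map_mul (φ g) _ _) }
  let ρ : G →* AddMonoid.End (Additive U) :=
    { toFun := a
      map_one' := by
        refine AddMonoidHom.ext fun x => ?_
        apply Additive.toMul.injective
        refine Subtype.ext ?_
        change φ 1 (x.toMul : W) = (x.toMul : W)
        rw [map_one]; rfl
      map_mul' := fun g h => by
        refine AddMonoidHom.ext fun x => ?_
        apply Additive.toMul.injective
        refine Subtype.ext ?_
        change φ (g * h) (x.toMul : W) = φ g (φ h (x.toMul : W))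
        rw [map_mul]; rfl }
  refine hasNS_of_addEnd hpG (AddCommGroup.zmodModule hp0) ρ fun g hg v hv => ?_
  apply Additive.toMul.injective
  exact Subtype.ext (hφ g hg _ (congrArg (fun x : Additive U => (x.toMul : W)) hv))

theorem hasNS_of_subsingleton [Subsingleton G] : HasNS G :=
  ⟨fun _ => 1, fun h => one_ne_zero (congrFun h 1), fun h hh => absurd (Subsingleton.elim _ _) hh⟩

theorem hasNS_of_action [Finite G] {K : Type*} [Group K] [Finite K] [Nontrivial K]
    (φ : G →* MulAut K) (hφ : ∀ g, g ≠ 1 → ∀ v, φ g v = v → v = 1) : HasNS G := by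
  rcases subsingleton_or_nontrivial G with hG | hG
  · exact hasNS_of_subsingleton
  have hnil : Group.IsNilpotent K := by
    have : Finite (K ⋊[φ] G) := Finite.of_equiv _ SemidirectProduct.equivProd.symm
    have := Frob.semidirect_normal φ
    have := Frob.isNilpotent_kernel le_normalizer_of_normal
      (Frob.range_ne_bot_of_injective SemidirectProduct.inr_injective) (Frob.semidirect_fpf φ hφ)
    exact Group.nilpotent_of_mulEquiv
      (MonoidHom.ofInjective (SemidirectProduct.inl_injective (φ := φ))).symm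
  have hZ : center K ≠ ⊥ := by
    have := Group.IsNilpotent.center_ne_bot (G := K)
    exact this
  have : Nontrivial (center K) := (nontrivial_iff_ne_bot _).2 hZ
  let ψ : G →* MulAut (center K) := (MulAut.characteristic (center K)).comp φ
  let inst : CommGroup (center K) := IsMulCommutative.instCommGroup
  refine hasNS_of_commGroup (W := center K) ψ fun g hg v hv => ?_
  have h1 : (v : K) = 1 := hφ g hg v (congrArg Subtype.val hv)
  exact Subtype.ext h1

theorem hasNS_of_fpf {L : Type*} [Group L] [Finite L] {K H : Subgroup L} (hK : K ≠ ⊥)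
    (hHK : H ≤ normalizer (K : Set L)) (hfpf : ∀ h ∈ H, h ≠ 1 → K ⊓ centralizer {h} = ⊥) :
    HasNS H := by
  have : Nontrivial K := (nontrivial_iff_ne_bot _).2 hK
  refine hasNS_of_action (K.normalizerMonoidHom.comp (inclusion hHK)) fun g hg v hv => ?_
  have h1 := Frob.fpf_iff.1 (hfpf g g.2 fun e => hg (Subtype.ext e)) v v.2
  refine Subtype.ext (h1 ?_)
  have h2 : (g : L) * v * (g : L)⁻¹ = v := congrArg Subtype.val hv
  first
    | exact h2
    | exact (mul_inv_eq_iff_eq_mul.1 h2)
    | exact (mul_inv_eq_iff_eq_mul.1 h2).symm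

theorem HasNS.of_equiv {G' : Type*} [Group G'] (e : G ≃* G') (h : HasNS G) : HasNS G' := by
  obtain ⟨f, hf0, hf⟩ := h
  refine ⟨f ∘ e.symm, fun h => hf0 (funext fun x => by simpa using congrFun h (e x)),
    fun h hh x => ?_⟩
  have := hf (e.symm h) (by simpa using hh) (e.symm x)
  rw [Nat.card_congr e.toEquiv] at this
  simpa using this

theorem IsFC.hasNS (h : IsFC G) : HasNS G := by
  obtain ⟨L, _, _, H, hH, ⟨e⟩⟩ := h
  obtain ⟨N, -, hN, -, hN0, hfpf⟩ := Frob.exists_kernel_fpf hH
  exact (hasNS_of_fpf hN0 le_normalizer_of_normal hfpf).of_equiv e.symm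

theorem HasNS.isFC [Finite G] [Nontrivial G] (h : HasNS G) : IsFC G := by
  obtain ⟨f, hf0, hf⟩ := h
  exact isFC_of_fun_int _ Nat.card_pos f hf0 hf

theorem HasNS.hasFree [Finite G] (h : HasNS G) (F : Type*) [Field F] [CharZero F] :
    HasFree F G := by
  obtain ⟨f, hf0, hf⟩ := h
  exact exists_rep_of_normSol hf0 hf F

theorem IsFC.hasFree [Finite G] (h : IsFC G) (F : Type*) [Field F] [CharZero F] : HasFree F G :=
  h.hasNS.hasFree F

theorem IsFC.finite (h : IsFC G) : Finite G := by
  obtain ⟨L, _, _, H, -, ⟨e⟩⟩ := h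
  exact Finite.of_equiv _ e.symm.toEquiv

theorem IsFC.nontrivial (h : IsFC G) : Nontrivial G := by
  obtain ⟨L, _, _, H, hH, ⟨e⟩⟩ := h
  have := (nontrivial_iff_ne_bot _).2 hH.1
  exact e.symm.injective.nontrivial

theorem HasFree.isFC {F : Type*} [Field F] [Finite G] [Nontrivial G] (h : HasFree F G) :
    IsFC G := by
  obtain ⟨n, ρ, hn, hρ⟩ := h
  have : Nonempty (Fin n) := ⟨⟨0, hn⟩⟩
  let σ : G →* AddMonoid.End (Fin n → F) :=
    { toFun := fun g => (ρ g).toAddMonoidHom
      map_one' := by rw [map_one]; rfl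
      map_mul' := fun g h => by rw [map_mul]; rfl }
  exact isFC_of_module F σ hρ

theorem HasFree.of_injective {F : Type*} [Field F] {H : Type*} [Group H] (h : HasFree F G)
    (f : H →* G) (hf : Function.Injective f) : HasFree F H := by
  obtain ⟨n, ρ, hn, hρ⟩ := h
  exact ⟨n, ρ.comp f, hn, fun g hg => hρ (f g) fun e => hg (hf (by rw [e, map_one]))⟩

theorem HasFree.subgroup {F : Type*} [Field F] (h : HasFree F G) (H : Subgroup G) :
    HasFree F H := h.of_injective H.subtype H.subtype_injective

theorem IsFC.of_injective {H : Type*} [Group H] [Nontrivial H] (h : IsFC G)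
    (f : H →* G) (hf : Function.Injective f) : IsFC H := by
  have := h.finite
  have := Finite.of_injective f hf
  exact ((h.hasFree ℚ).of_injective f hf).isFC

theorem IsFC.pqCond (h : IsFC G) : Frob.PQCond G := by
  obtain ⟨L, _, _, H, hH, ⟨e⟩⟩ := h
  exact (Frob.pqCond_of_frob hH).of_injective e.toMonoidHom e.injective

theorem HasFree.pqCond {F : Type*} [Field F] [Finite G] (h : HasFree F G) : Frob.PQCond G := by
  rcases subsingleton_or_nontrivial G with hG | hG
  · intro x y hx
    rw [Subsingleton.elim x 1, orderOf_one] at hx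
    exact absurd hx Nat.not_prime_one
  · exact h.isFC.pqCond

theorem HasFree.hasNS {F : Type*} [Field F] [Finite G] (h : HasFree F G) : HasNS G := by
  rcases subsingleton_or_nontrivial G with hG | hG
  · exact hasNS_of_subsingleton
  · exact h.isFC.hasNS

theorem HasFree.complex {F : Type*} [Field F] [Finite G] (h : HasFree F G) : HasFree ℂ G :=
  h.hasNS.hasFree ℂ

theorem hasFree_of_action [Finite G] {K : Type*} [Group K] [Finite K] [Nontrivial K]
    (φ : G →* MulAut K) (hφ : ∀ g, g ≠ 1 → ∀ v, φ g v = v → v = 1) : HasFree ℂ G :=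
  (hasNS_of_action φ hφ).hasFree ℂ

/-- A group acting freely on the non-zero vectors of a non-zero module over a division ring. -/
theorem hasFree_of_module (D : Type*) [DivisionRing D] {V : Type*} [Finite G]
    [AddCommGroup V] [Module D V] [Nontrivial V]
    (ρ : G →* AddMonoid.End V) (hρ : ∀ g : G, g ≠ 1 → ∀ v, ρ g v = v → v = 0) : HasFree ℂ G := by
  rcases subsingleton_or_nontrivial G with hG | hG
  · exact hasNS_of_subsingleton.hasFree ℂ
  · exact (isFC_of_module D ρ hρ).hasFree ℂ

end CfsgLib.FrobCompl
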