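import Mathlib
import Cfsg.Agent.Lib.FrobCompl.Reduce
import Cfsg.Agent.Lib.Char.CAut

/-!
# Products of two elements of order three in a Frobenius complement
-/

set_option autoImplicit false

namespace CfsgLib.FrobCompl

/-- `ρ` is a free representation in the ring `A`: `ρ g - 1` is invertible for `g ≠ 1`. -/
def IsFree {G A : Type*} [Group G] [Ring A] (ρ : G →* A) : Prop :=
  ∀ g : G, g ≠ 1 → IsUnit (ρ g - 1)

/-- `g + g⁻¹`. -/
def tr {G A : Type*} [Group G] [Ring A] (ρ : G →* A) (g : G) : A := ρ g + ρ g⁻¹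

/-- The order of `g` is one of `1, 3, 4, 6, 10`. -/
def OrdCases {G : Type*} [Monoid G] (g : G) : Prop :=
  g = 1 ∨ (g ^ 3 = 1 ∧ g ≠ 1) ∨ (g ^ 4 = 1 ∧ g ^ 2 ≠ 1) ∨ (g ^ 6 = 1 ∧ g ^ 2 ≠ 1 ∧ g ^ 3 ≠ 1) ∨
    (g ^ 10 = 1 ∧ g ^ 2 ≠ 1 ∧ g ^ 5 ≠ 1)

theorem add_inv_eq_re {u : ℂ} (hu : ‖u‖ = 1) : u + u⁻¹ = ((2 * u.re : ℝ) : ℂ) := by
  rw [Complex.inv_eq_conj hu, Complex.add_conj]

theorem trace_cases {ζ ξ : ℂ} {n : ℕ} (hn : 0 < n) (hζ : ζ ^ n = 1) (hξ : ξ ^ n = 1)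
    (h : ζ + ζ⁻¹ + (ξ + ξ⁻¹) = 1) : OrdCases ζ := by
  set l := ζ + ζ⁻¹ with hl
  have hζ0 : ζ ≠ 0 := fun e => by rw [e, zero_pow hn.ne'] at hζ; exact zero_ne_one hζ
  have hint : IsIntegral ℤ l := (Char.isIntegral_of_pow_eq_one hn hζ).add
    (Char.isIntegral_of_pow_eq_one hn (by rw [inv_pow, hζ, inv_one]))
  have hlt : ∀ τ : ℂ ≃+* ℂ, ‖τ ((l ^ 2 - l) * (l ^ 2 - l - 1) * (l ^ 2 - l - 2))‖ < 1 := by
    intro τ
    have h1 := Char.norm_ringHom_of_pow_eq_one (τ : ℂ →+* ℂ) hn hζ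
    have h2 := Char.norm_ringHom_of_pow_eq_one (τ : ℂ →+* ℂ) hn hξ
    have e1 : τ l = ((2 * (τ ζ).re : ℝ) : ℂ) := by
      rw [hl, map_add, map_inv₀]; exact add_inv_eq_re h1
    have e2 : τ (ξ + ξ⁻¹) = ((2 * (τ ξ).re : ℝ) : ℂ) := by
      rw [map_add, map_inv₀]; exact add_inv_eq_re h2
    have e3 : (2 * (τ ζ).re : ℝ) + 2 * (τ ξ).re = 1 := by
      have := congrArg τ h
      rw [map_add, e1, e2, map_one] at this
      exact_mod_cast this
    have b1 := (abs_le.1 ((Complex.abs_re_le_norm (τ ζ)).trans h1.le)).2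
    have b2 := (abs_le.1 ((Complex.abs_re_le_norm (τ ξ)).trans h2.le)).2
    set x : ℝ := 2 * (τ ζ).re with hx
    have e4 : τ ((l ^ 2 - l) * (l ^ 2 - l - 1) * (l ^ 2 - l - 2)) =
        (((x ^ 2 - x) * (x ^ 2 - x - 1) * (x ^ 2 - x - 2) : ℝ) : ℂ) := by
      simp only [map_mul, map_sub, map_pow, map_one, map_ofNat, e1]
      push_cast; ring
    rw [e4, Complex.norm_real, Real.norm_eq_abs, abs_lt]
    have w1 : -1 / 4 ≤ x ^ 2 - x := by nlinarith [sq_nonneg (x - 1 / 2)]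
    have w2 : x ^ 2 - x ≤ 2 := by nlinarith
    generalize x ^ 2 - x = w at w1 w2
    constructor
    · nlinarith [mul_nonneg (sub_nonneg.2 w1) (sq_nonneg (w - 3 / 2))]
    · nlinarith [mul_nonneg (sub_nonneg.2 w2) (sq_nonneg (w - 1 / 2))]
  have hz : (l ^ 2 - l) * (l ^ 2 - l - 1) * (l ^ 2 - l - 2) = 0 := by
    have hi : IsIntegral ℤ (l ^ 2 - l) := (hint.pow 2).sub hint
    refine (Char.eq_zero_or_pow_eq_one_of_norm_le_one ((hi.mul (hi.sub isIntegral_one)).mul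
      (hi.sub (by simpa using (isIntegral_algebraMap (R := ℤ) (A := ℂ) (x := 2))))) fun τ => (hlt τ).le).resolve_right ?_
    rintro ⟨m, hm, e⟩
    exact (hlt (RingEquiv.refl ℂ)).ne (Complex.norm_eq_one_of_pow_eq_one e hm.ne')
  have hq : ζ ^ 2 + 1 = l * ζ := by rw [hl]; field_simp
  have hz' : l * (l - 1) * (l ^ 2 - l - 1) * (l - 2) * (l + 1) = 0 := by rw [← hz]; ring
  simp only [mul_eq_zero] at hz'
  unfold OrdCases
  rcases hz' with (((e | e) | e) | e) | e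
  · have e2 : ζ ^ 2 = -1 := by linear_combination hq + ζ * e
    refine Or.inr (Or.inr (Or.inl ⟨by linear_combination (ζ ^ 2 - 1) * e2, ?_⟩))
    rw [e2]; norm_num
  · have e2 : ζ ^ 2 - ζ + 1 = 0 := by linear_combination hq + ζ * e
    have e3 : ζ ^ 3 = -1 := by linear_combination (ζ + 1) * e2
    refine Or.inr (Or.inr (Or.inr (Or.inl ⟨by linear_combination (ζ ^ 3 - 1) * e3, ?_, ?_⟩)))
    · intro e4
      have : ζ = -1 := by linear_combination e3 - ζ * e4
      rw [this] at e2; norm_num at e2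
    · rw [e3]; norm_num
  · have e2 : ζ ^ 4 - ζ ^ 3 + ζ ^ 2 - ζ + 1 = 0 := by
      linear_combination (ζ ^ 2 + 1 + l * ζ - ζ) * hq + ζ ^ 2 * e
    have e3 : ζ ^ 5 = -1 := by linear_combination (ζ + 1) * e2
    refine Or.inr (Or.inr (Or.inr (Or.inr ⟨by linear_combination (ζ ^ 5 - 1) * e3, ?_, ?_⟩)))
    · intro e4
      have : ζ = -1 := by linear_combination e3 - (ζ ^ 3 + ζ) * e4
      rw [this] at e2; norm_num at e2
    · rw [e3]; norm_num
  · left
    have : (ζ - 1) ^ 2 = 0 := by linear_combination hq + ζ * e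
    exact sub_eq_zero.1 (pow_eq_zero_iff two_ne_zero |>.1 this)
  · have e2 : ζ ^ 2 + ζ + 1 = 0 := by linear_combination hq + ζ * e
    refine Or.inr (Or.inl ⟨by linear_combination (ζ - 1) * e2, ?_⟩)
    intro e4
    rw [e4] at e2; norm_num at e2

section Ring

variable {G A : Type*} [Group G] [Ring A] {ρ : G →* A}

theorem rho_mul_inv (ρ : G →* A) (g : G) : ρ g * ρ g⁻¹ = 1 := by
  rw [← map_mul, mul_inv_cancel, map_one]

theorem rho_inv_mul (ρ : G →* A) (g : G) : ρ g⁻¹ * ρ g = 1 := by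
  rw [← map_mul, inv_mul_cancel, map_one]

theorem rho_isUnit (ρ : G →* A) (g : G) : IsUnit (ρ g) := (Group.isUnit g).map ρ

theorem IsFree.comp {H : Type*} [Group H] (h : IsFree ρ) (f : H →* G)
    (hf : Function.Injective f) : IsFree (ρ.comp f) :=
  fun g hg => h (f g) fun e => hg (hf (by rw [e, map_one]))

theorem IsFree.cancel (h : IsFree ρ) {g : G} (hg : g ≠ 1) {x : A} (hx : (ρ g - 1) * x = 0) :
    x = 0 := (h g hg).mul_right_eq_zero.1 hx

theorem IsFree.eq_one [Nontrivial A] (h : IsFree ρ) {g : G} (hg : ρ g = 1) : g = 1 := by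
  by_contra h1
  have := h g h1
  rw [hg, sub_self] at this
  exact not_isUnit_zero this

theorem IsFree.injective [Nontrivial A] (h : IsFree ρ) : Function.Injective ρ :=
  (injective_iff_map_eq_one ρ).2 fun _ => h.eq_one

theorem IsFree.neg_one (h : IsFree ρ) {g : G} (hg : g ≠ 1) (h2 : g ^ 2 = 1) : ρ g = -1 := by
  have h3 : ρ g * ρ g = 1 := by rw [← map_mul, ← sq, h2, map_one]
  have : ρ g + 1 = 0 := h.cancel hg (by noncomm_ring [h3])
  exact eq_neg_of_add_eq_zero_left this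

theorem IsFree.three (h : IsFree ρ) {g : G} (h3 : g ^ 3 = 1) (hg : g ≠ 1) :
    ρ g * ρ g + ρ g + 1 = 0 := by
  have h4 : ρ g * (ρ g * ρ g) = 1 := by
    rw [← map_mul, ← map_mul, ← map_one ρ, ← h3, pow_three]
  exact h.cancel hg (by noncomm_ring [h4])

theorem IsFree.inv_three (h : IsFree ρ) {g : G} (h3 : g ^ 3 = 1) (hg : g ≠ 1) :
    ρ g⁻¹ = -1 - ρ g := by
  have h1 : g⁻¹ = g * g := by rw [inv_eq_iff_mul_eq_one, ← pow_three, h3]
  rw [h1, map_mul]
  linear_combination (norm := grind) h.three h3 hg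

theorem tr_inv (g : G) : tr ρ g⁻¹ = tr ρ g := by rw [tr, tr, inv_inv, add_comm]

theorem tr_conj (g x : G) : tr ρ (x * g * x⁻¹) = ρ x * tr ρ g * ρ x⁻¹ := by
  simp only [tr, mul_inv_rev, inv_inv, map_mul, mul_add, add_mul, mul_assoc]

theorem tr_comm (g : G) : ρ g * tr ρ g = tr ρ g * ρ g := by
  simp only [tr, mul_add, add_mul, rho_mul_inv, rho_inv_mul]

theorem tr_sq (g : G) : tr ρ g * tr ρ g = tr ρ (g * g) + 2 := by
  simp only [tr, mul_add, add_mul, rho_mul_inv, rho_inv_mul, mul_inv_rev, map_mul]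
  grind

theorem IsFree.tr_mul_three (h : IsFree ρ) {a b : G} (ha3 : a ^ 3 = 1) (ha : a ≠ 1)
    (hb3 : b ^ 3 = 1) (hb : b ≠ 1) :
    tr ρ (a * b) = ρ a * ρ b + ρ b * ρ a + ρ a + ρ b + 1 := by
  rw [tr, mul_inv_rev, map_mul, map_mul, h.inv_three ha3 ha, h.inv_three hb3 hb]
  noncomm_ring

theorem IsFree.tr_add_tr (h : IsFree ρ) {a b : G} (ha3 : a ^ 3 = 1) (ha : a ≠ 1)
    (hb3 : b ^ 3 = 1) (hb : b ≠ 1) : tr ρ (a * b) + tr ρ (a * b⁻¹) = 1 := by
  rw [h.tr_mul_three ha3 ha hb3 hb, h.tr_mul_three ha3 ha (by rw [inv_pow, hb3, inv_one])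
    (inv_ne_one.2 hb), h.inv_three hb3 hb]
  noncomm_ring

theorem IsFree.cancel_add_one (h : IsFree ρ) {g : G} (hg : g ^ 2 ≠ 1) {x : A}
    (hx : (ρ g + 1) * x = 0) : x = 0 := by
  refine h.cancel hg ?_
  rw [map_pow, show ρ g ^ 2 - 1 = (ρ g - 1) * (ρ g + 1) by noncomm_ring, mul_assoc, hx, mul_zero]

theorem IsFree.tr_cases (h : IsFree ρ) {g : G} (hg : OrdCases g) :
    tr ρ g = 2 ∨ tr ρ g = -1 ∨ tr ρ g = 0 ∨ tr ρ g = 1 ∨ tr ρ g * tr ρ g = tr ρ g + 1 := by
  have hu := rho_isUnit ρ g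
  have e1 := rho_mul_inv ρ g
  have e2 := rho_inv_mul ρ g
  rcases hg with e | ⟨e, e'⟩ | ⟨e, e'⟩ | ⟨e, e', e''⟩ | ⟨e, e', e''⟩
  · left; rw [tr, e, inv_one, map_one]; norm_num
  · right; left; rw [tr, h.inv_three e e']; noncomm_ring
  · right; right; left
    have := h.neg_one e' (by rw [← pow_mul, e])
    rw [map_pow, sq] at this
    rw [← hu.mul_right_eq_zero, tr, mul_add, e1, this, neg_add_cancel]
  · right; right; right; left
    have h3 := h.neg_one e'' (by rw [← pow_mul, e])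
    rw [map_pow, pow_three] at h3
    have h4 : ρ g * ρ g - ρ g + 1 = 0 := h.cancel_add_one e' (by noncomm_ring [h3])
    rw [← sub_eq_zero, ← hu.mul_right_eq_zero, tr]
    linear_combination (norm := grind) h4 + e1
  · right; right; right; right
    have h3 := h.neg_one e'' (by rw [← pow_mul, e])
    rw [map_pow] at h3
    have h4 : ρ g ^ 4 - ρ g ^ 3 + ρ g ^ 2 - ρ g + 1 = 0 := h.cancel_add_one e' (by
      linear_combination (norm := grind) h3)
    rw [← sub_eq_zero, ← hu.mul_right_eq_zero, ← hu.mul_right_eq_zero, tr]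
    generalize ρ g = x at *
    generalize ρ g⁻¹ = y at *
    linear_combination (norm := grind) h4 + x * x * e1 + x * x * e2 +
      x * e1 * y + e1 - x * e1

theorem IsFree.eq_one_of_tr [Nontrivial A] (h : IsFree ρ) {g : G} (hg : tr ρ g = 2) : g = 1 := by
  by_contra h1
  have e1 := rho_mul_inv ρ g
  have h2 : ρ g - 1 = 0 := h.cancel h1 (by
    rw [tr] at hg
    linear_combination (norm := grind) ρ g * hg - e1)
  exact h1 (h.eq_one (sub_eq_zero.1 h2))

end Ring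

theorem isFree_of_fpf {F G V : Type*} [Field F] [Group G] [AddCommGroup V] [Module F V]
    [FiniteDimensional F V] (ρ : Representation F G V)
    (hρ : ∀ g : G, g ≠ 1 → ∀ v, ρ g v = v → v = 0) : IsFree (A := Module.End F V) ρ := by
  intro g hg
  rw [LinearMap.isUnit_iff_ker_eq_bot, LinearMap.ker_eq_bot']
  intro v hv
  exact hρ g hg v (sub_eq_zero.1 hv)

theorem exists_eigenvector_of_invariant {V : Type*} [AddCommGroup V] [Module ℂ V]
    [FiniteDimensional ℂ V] {W : Submodule ℂ V} (hW : W ≠ ⊥) (f : Module.End ℂ V)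
    (hf : ∀ v ∈ W, f v ∈ W) : ∃ (c : ℂ) (v : V), v ∈ W ∧ v ≠ 0 ∧ f v = c • v := by
  have : Nontrivial W := Submodule.nontrivial_iff_ne_bot.2 hW
  obtain ⟨c, hc⟩ := Module.End.exists_eigenvalue (f.restrict hf)
  obtain ⟨v, hv⟩ := hc.exists_hasEigenvector
  exact ⟨c, v, v.2, fun e => hv.2 (Subtype.ext e), congrArg Subtype.val hv.apply_eq_smul⟩

/-- In a Frobenius complement the product of two elements of order three has order
`1, 3, 4, 6` or `10`. -/
theorem HasFree.ordCases {G : Type*} [Group G] [Finite G] (h : HasFree ℂ G) {a b : G}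
    (ha3 : a ^ 3 = 1) (ha : a ≠ 1) (hb3 : b ^ 3 = 1) (hb : b ≠ 1) : OrdCases (a * b) := by
  obtain ⟨n, ρ, hn, hρ⟩ := h
  have : Nonempty (Fin n) := ⟨⟨0, hn⟩⟩
  have hfree := isFree_of_fpf ρ hρ
  have key : ∀ (g : G) (c : ℂ) (v : Fin n → ℂ), v ≠ 0 → ρ g v = c • v →
      (∀ k : ℕ, c ^ k = 1 ↔ g ^ k = 1) ∧
        tr (A := Module.End ℂ (Fin n → ℂ)) ρ g v = (c + c⁻¹) • v := by
    intro g c v hv hg
    have h1 : ∀ k : ℕ, ρ (g ^ k) v = c ^ k • v := by
      intro k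
      induction k with
      | zero => simp
      | succ k ih => rw [pow_succ, map_mul, Module.End.mul_apply, hg, map_smul, ih, smul_smul,
          pow_succ']
    have h2 : ∀ k : ℕ, c ^ k = 1 ↔ g ^ k = 1 := by
      intro k
      constructor
      · intro e
        by_contra e'
        exact hv (hρ _ e' v (by rw [h1, e, one_smul]))
      · intro e
        have := h1 k
        rw [e, map_one, Module.End.one_apply] at this
        have h3 : (c ^ k - 1) • v = 0 := by rw [sub_smul, ← this, one_smul, sub_self]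
        exact sub_eq_zero.1 ((smul_eq_zero.1 h3).resolve_right hv)
    refine ⟨h2, ?_⟩
    have hc : c ≠ 0 := fun e => by
      have := (h2 _).2 (pow_card_eq_one' (x := g))
      rw [e, zero_pow Nat.card_pos.ne'] at this
      exact zero_ne_one this
    have h4 : ρ g⁻¹ v = c⁻¹ • v := by
      have h5 : ρ g⁻¹ (ρ g v) = v := by
        rw [← Module.End.mul_apply, ← map_mul, inv_mul_cancel, map_one, Module.End.one_apply]
      rw [hg, map_smul] at h5
      rw [eq_inv_smul_iff₀ hc, h5]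
    rw [tr, LinearMap.add_apply, hg, h4, add_smul]
  obtain ⟨ζ, v, -, hv, hgv⟩ := exists_eigenvector_of_invariant (W := ⊤) top_ne_bot (ρ (a * b))
    fun _ _ => Submodule.mem_top
  obtain ⟨k1, k2⟩ := key _ _ _ hv hgv
  have hsum := hfree.tr_add_tr ha3 ha hb3 hb
  set T := tr (A := Module.End ℂ (Fin n → ℂ)) ρ (a * b) with hT
  have hT' : tr (A := Module.End ℂ (Fin n → ℂ)) ρ (a * b⁻¹) = 1 - T := eq_sub_of_add_eq' hsum
  have hcomm : ρ (a * b⁻¹) * T = T * ρ (a * b⁻¹) := by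
    have := tr_comm (A := Module.End ℂ (Fin n → ℂ)) (ρ := ρ) (a * b⁻¹)
    rw [hT'] at this
    linear_combination (norm := grind) -this
  obtain ⟨ξ, w, hwW, hw, hhw⟩ := exists_eigenvector_of_invariant
    (W := T.eigenspace (ζ + ζ⁻¹)) (by
      rw [Submodule.ne_bot_iff]
      exact ⟨v, Module.End.mem_eigenspace_iff.2 k2, hv⟩) (ρ (a * b⁻¹)) (by
      intro u hu
      rw [Module.End.mem_eigenspace_iff] at hu ⊢
      rw [← Module.End.mul_apply, ← hcomm, Module.End.mul_apply, hu, map_smul])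
  obtain ⟨k3, k4⟩ := key _ _ _ hw hhw
  rw [Module.End.mem_eigenspace_iff] at hwW
  rw [hT', LinearMap.sub_apply, hwW, Module.End.one_apply] at k4
  have h6 : (ζ + ζ⁻¹ + (ξ + ξ⁻¹) - 1) • w = 0 := by
    rw [sub_smul, add_smul, ← k4, one_smul]; abel
  have h7 := trace_cases Nat.card_pos ((k1 _).2 pow_card_eq_one') ((k3 _).2 pow_card_eq_one')
    (sub_eq_zero.1 ((smul_eq_zero.1 h6).resolve_right hw))
  have k0 : ζ = 1 ↔ a * b = 1 := by simpa using k1 1
  simpa only [OrdCases, Ne, k0, k1] using h7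

end CfsgLib.FrobCompl
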