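import Mathlib
import Cfsg.Agent.Lib.FrobCompl.Trace3
import Cfsg.Agent.Lib.FrobCompl.QDecomp

/-!
# The elements of order three of a Frobenius complement
-/

set_option autoImplicit false

namespace CfsgLib.FrobCompl

variable {G A : Type*} [Group G] [Ring A]

/-- `a` has order three. -/
def O3 (a : G) : Prop := a ^ 3 = 1 ∧ a ≠ 1

theorem O3.inv {a : G} (h : O3 a) : O3 a⁻¹ := ⟨by rw [inv_pow, h.1, inv_one], inv_ne_one.2 h.2⟩

theorem O3.conj {a : G} (h : O3 a) (x : G) : O3 (x * a * x⁻¹) :=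
  ⟨by rw [conj_pow, h.1, mul_one, mul_inv_cancel], fun e => h.2 (conj_eq_one_iff.1 e)⟩

theorem o3_iff {a : G} : O3 a ↔ orderOf a = 3 :=
  have := Fact.mk Nat.prime_three
  ⟨fun h => orderOf_eq_prime h.1 h.2, fun h => ⟨h ▸ pow_orderOf_eq_one a, fun e => by
    rw [e, orderOf_one] at h; omega⟩⟩

/-- A free representation of a group in which products of two elements of order three have
order `1, 3, 4, 6, 10`. -/
structure ZS (ρ : G →* A) : Prop where
  free : IsFree ρ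
  cases : ∀ a b : G, O3 a → O3 b → OrdCases (a * b)

/-- `2 a + 1`. -/
def bar (ρ : G →* A) (a : G) : A := 2 * ρ a + 1

/-- The anticommutator of `bar a` and `bar b`. -/
def ac (ρ : G →* A) (a b : G) : A := bar ρ a * bar ρ b + bar ρ b * bar ρ a

/-- Generators of a binary tetrahedral subgroup. -/
structure QT (ρ : G →* A) (i j c : G) : Prop where
  qu : QU (ρ i) (ρ j)
  cc : bar ρ c = ρ i + ρ j + ρ i * ρ j

variable {ρ : G →* A}

theorem IsFree.bar_sq (h : IsFree ρ) {a : G} (ha : O3 a) : bar ρ a * bar ρ a = -3 := by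
  unfold bar
  linear_combination (norm := (clear * -; grind)) 4 * h.three ha.1 ha.2

theorem IsFree.bar_inv (h : IsFree ρ) {a : G} (ha : O3 a) : bar ρ a⁻¹ = -bar ρ a := by
  unfold bar
  linear_combination (norm := (clear * -; grind)) 2 * h.inv_three ha.1 ha.2

theorem bar_conj (a x : G) : bar ρ (x * a * x⁻¹) = ρ x * bar ρ a * ρ x⁻¹ := by
  simp only [bar, map_mul]
  linear_combination (norm := (clear * -; grind)) -rho_mul_inv ρ x

theorem IsFree.ac_eq (h : IsFree ρ) {a b : G} (ha : O3 a) (hb : O3 b) :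
    ac ρ a b = 4 * tr ρ (a * b) - 2 := by
  rw [h.tr_mul_three ha.1 ha.2 hb.1 hb.2]
  simp only [ac, bar]
  grind

theorem ZS.ac_cases (h : ZS ρ) {a b : G} (ha : O3 a) (hb : O3 b) :
    ac ρ a b = 6 ∨ ac ρ a b = -6 ∨ ac ρ a b = -2 ∨ ac ρ a b = 2 ∨ ac ρ a b * ac ρ a b = 20 := by
  rw [h.free.ac_eq ha hb]
  rcases h.free.tr_cases (h.cases a b ha hb) with e | e | e | e | e
  · left; rw [e]; norm_num
  · right; left; rw [e]; norm_num
  · right; right; left; rw [e]; norm_num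
  · right; right; right; left; rw [e]; norm_num
  · right; right; right; right
    linear_combination (norm := (clear * -; grind)) 16 * e

theorem IsFree.eq_or_of_sq [Nontrivial A] (h : IsFree ρ) {g : G} (hg : ρ g * ρ g = 1) :
    ρ g = 1 ∨ ρ g = -1 := by
  by_cases h1 : g = 1
  · left; rw [h1, map_one]
  · right
    exact h.neg_one h1 (h.eq_one (by rw [sq, map_mul, hg]))

theorem rho_inv_of_sq {i : G} (hi : ρ i * ρ i = -1) : ρ i⁻¹ = -ρ i := by
  linear_combination (norm := (clear * -; grind)) ρ i⁻¹ * hi - rho_inv_mul ρ i * ρ i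

variable [Algebra ℚ A]

theorem IsFree.bar_inj [Nontrivial A] (h : IsFree ρ) {a b : G} (e : bar ρ a = bar ρ b) : a = b :=
  h.injective (cancel_nat 2 (add_right_cancel e))

theorem IsFree.eq_of_ac [Nontrivial A] (h : IsFree ρ) {a b : G} (ha : O3 a) (hb : O3 b)
    (e : ac ρ a b = -6) : a = b := by
  rw [h.ac_eq ha hb] at e
  rw [← mul_inv_eq_one]
  refine h.eq_one_of_tr (cancel_nat 4 ?_)
  linear_combination (norm := (clear * -; grind)) 4 * h.tr_add_tr ha.1 ha.2 hb.1 hb.2 - e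

theorem IsFree.eq_inv_of_ac [Nontrivial A] (h : IsFree ρ) {a b : G} (ha : O3 a) (hb : O3 b)
    (e : ac ρ a b = 6) : a = b⁻¹ := by
  rw [h.ac_eq ha hb] at e
  rw [← mul_eq_one_iff_eq_inv]
  refine h.eq_one_of_tr (cancel_nat 4 ?_)
  linear_combination (norm := (clear * -; grind)) e

namespace QT

variable {i j c : G}

theorem bar_c (Q : QT ρ i j c) : bar ρ c = qq (ρ i) (ρ j) 0 1 1 1 := by
  rw [Q.cc]; simp [qq, QC.coe_zero, QC.coe_one]

theorem two_c (Q : QT ρ i j c) : 2 * ρ c = qq (ρ i) (ρ j) (-1) 1 1 1 := by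
  have := Q.cc
  simp only [qq, bar, QC.coe_neg, QC.coe_one] at this ⊢
  linear_combination (norm := (clear * -; grind)) this

theorem two_c_inv (Q : QT ρ i j c) : 2 * ρ c⁻¹ = qq (ρ i) (ρ j) (-1) (-1) (-1) (-1) := by
  have h1 : 2 * ρ c * qq (ρ i) (ρ j) (-1) (-1) (-1) (-1) = 4 := by
    rw [Q.two_c, Q.qu.mul, qq_ofNat (I := ρ i) (J := ρ j) 4]
    congr 1 <;> (clear * -; grind)
  refine cancel_nat 2 ?_
  generalize qq (ρ i) (ρ j) (-1) (-1) (-1) (-1) = X at h1
  linear_combination (norm := (clear * -; grind)) -ρ c⁻¹ * h1 + 2 * rho_inv_mul ρ c * X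

theorem o3_c [Nontrivial A] (h : IsFree ρ) (Q : QT ρ i j c) : O3 c := by
  have h1 : 2 * ρ c * (2 * ρ c) = 2 * (2 * ρ c⁻¹) := by
    rw [Q.two_c, Q.two_c_inv, Q.qu.mul, ofNat_mul_qq]
    congr 1 <;> (clear * -; grind)
  have h2 : c * c = c⁻¹ := h.injective (cancel_nat 4 (by
    rw [map_mul]; linear_combination (norm := (clear * -; grind)) h1))
  refine ⟨by rw [pow_three, h2, mul_inv_cancel], fun e => ?_⟩
  have h3 := Q.two_c
  rw [e, map_one, mul_one, qq_ofNat (I := ρ i) (J := ρ j) 2] at h3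
  exact zero_ne_one (Q.qu.inj h3).2.1

variable {y : G} {x0 x1 x2 x3 : QC (ρ i) (ρ j)}

theorem conj_i (Q : QT ρ i j c) (e : bar ρ y = qq (ρ i) (ρ j) x0 x1 x2 x3) :
    bar ρ (i * y * i⁻¹) = qq (ρ i) (ρ j) x0 x1 (-x2) (-x3) := by
  rw [bar_conj, rho_inv_of_sq Q.qu.ii, e, mul_neg, Q.qu.i_mul, Q.qu.mul_i, qq_neg]
  congr 1 <;> (clear * -; grind)

theorem conj_j (Q : QT ρ i j c) (e : bar ρ y = qq (ρ i) (ρ j) x0 x1 x2 x3) :
    bar ρ (j * y * j⁻¹) = qq (ρ i) (ρ j) x0 (-x1) x2 (-x3) := by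
  rw [bar_conj, rho_inv_of_sq Q.qu.jj, e, mul_neg, Q.qu.j_mul, Q.qu.mul_j, qq_neg]
  congr 1 <;> (clear * -; grind)

theorem conj_k (Q : QT ρ i j c) (e : bar ρ y = qq (ρ i) (ρ j) x0 x1 x2 x3) :
    bar ρ (i * j * y * (i * j)⁻¹) = qq (ρ i) (ρ j) x0 (-x1) (-x2) x3 := by
  have := Q.conj_i (Q.conj_j e)
  rw [neg_neg] at this
  rw [← this]
  congr 1
  group

theorem conj_c (Q : QT ρ i j c) (e : bar ρ y = qq (ρ i) (ρ j) x0 x1 x2 x3) :
    bar ρ (c * y * c⁻¹) = qq (ρ i) (ρ j) x0 x2 x3 x1 := by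
  refine cancel_nat 4 ?_
  rw [bar_conj, show 4 * (ρ c * bar ρ y * ρ c⁻¹) = (2 * ρ c) * bar ρ y * (2 * ρ c⁻¹) by grind,
    Q.two_c, Q.two_c_inv, e, Q.qu.mul, Q.qu.mul, ofNat_mul_qq]
  congr 1 <;> (clear * -; grind)

theorem sq_comps (h : IsFree ρ) (Q : QT ρ i j c) (hy : O3 y)
    (e : bar ρ y = qq (ρ i) (ρ j) x0 x1 x2 x3) :
    x0 * x0 - x1 * x1 - x2 * x2 - x3 * x3 = -3 ∧ x0 * x1 + x1 * x0 + x2 * x3 - x3 * x2 = 0 ∧
      x0 * x2 - x1 * x3 + x2 * x0 + x3 * x1 = 0 ∧ x0 * x3 + x1 * x2 - x2 * x1 + x3 * x0 = 0 := by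
  have := h.bar_sq hy
  rw [e, Q.qu.mul, qq_ofNat (I := ρ i) (J := ρ j) 3, qq_neg, neg_zero] at this
  exact Q.qu.inj this

variable [Nontrivial A]

/-- The relation of an element of order three to `c`. -/
theorem rel_c (h : ZS ρ) (Q : QT ρ i j c) (hy : O3 y) (e : bar ρ y = qq (ρ i) (ρ j) x0 x1 x2 x3) :
    (x0 = 0 ∧ (y = c⁻¹ ∨ y = c ∨ x1 + x2 + x3 = 1 ∨ x1 + x2 + x3 = -1)) ∨
      ((x1 + x2 + x3) * (x1 + x2 + x3) = 5 + 3 * (x0 * x0) ∧
        (x1 + x2 + x3) * x0 + x0 * (x1 + x2 + x3) = 0) := by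
  have hc := Q.o3_c h.free
  have e1 : ac ρ y c = qq (ρ i) (ρ j) (-(2 * (x1 + x2 + x3))) (2 * x0) (2 * x0) (2 * x0) := by
    rw [ac, e, Q.bar_c, Q.qu.mul, Q.qu.mul, qq_add]
    congr 1 <;> (clear * -; grind)
  have key : ∀ a : QC (ρ i) (ρ j), ac ρ y c = a → x0 = 0 ∧ -(2 * (x1 + x2 + x3)) = a := by
    intro a ha
    rw [e1, qq_coe a] at ha
    obtain ⟨h1, h2, -⟩ := Q.qu.inj ha
    exact ⟨cancel_nat 2 (by rw [h2, mul_zero]), h1⟩
  rcases h.ac_cases hy hc with f | f | f | f | f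
  · exact Or.inl ⟨(key 6 f).1, Or.inl (h.free.eq_inv_of_ac hy hc f)⟩
  · exact Or.inl ⟨(key (-6) f).1, Or.inr (Or.inl (h.free.eq_of_ac hy hc f))⟩
  · obtain ⟨h1, h2⟩ := key (-2) f
    exact Or.inl ⟨h1, Or.inr (Or.inr (Or.inl (cancel_nat 2 (by
      linear_combination (norm := (clear * -; grind)) -h2))))⟩
  · obtain ⟨h1, h2⟩ := key 2 f
    exact Or.inl ⟨h1, Or.inr (Or.inr (Or.inr (cancel_nat 2 (by
      linear_combination (norm := (clear * -; grind)) -h2))))⟩
  · rw [e1, Q.qu.mul, qq_ofNat (I := ρ i) (J := ρ j) 20] at f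
    obtain ⟨h1, h2, -⟩ := Q.qu.inj f
    exact Or.inr ⟨cancel_nat 4 (by linear_combination (norm := (clear * -; grind)) h1),
      cancel_nat 4 (by linear_combination (norm := (clear * -; grind)) -h2)⟩

theorem bad_sq (h : ZS ρ) (Q : QT ρ i j c) (hy : O3 y) (e : bar ρ y = qq (ρ i) (ρ j) x0 x1 x2 x3)
    (h0 : x0 * x0 = -1) (h1 : x0 * x1 + x1 * x0 = 0) (h2 : x0 * x2 + x2 * x0 = 0)
    (h3 : x0 * x3 + x3 * x0 = 0) (h12 : x1 * x2 = 0) (h21 : x2 * x1 = 0) (h13 : x1 * x3 = 0)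
    (h31 : x3 * x1 = 0) (h23 : x2 * x3 = 0) (h32 : x3 * x2 = 0)
    (hs : x1 * x1 + x2 * x2 + x3 * x3 = 2) : x1 * x1 = 0 := by
  have hu : x1 * x1 * (x1 * x1) = 2 * (x1 * x1) := by
    linear_combination (norm := (clear * -; grind)) x1 * x1 * hs - x1 * h12 * x2 - x1 * h13 * x3
  have e1 : ac ρ y (i * y * i⁻¹) = ((2 - 4 * (x1 * x1) : QC (ρ i) (ρ j)) : A) := by
    rw [ac, e, Q.conj_i e, Q.qu.mul, Q.qu.mul, qq_add, qq_coe]
    congr 1
    · linear_combination (norm := (clear * -; grind)) 2 * h0 + 2 * hs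
    · linear_combination (norm := (clear * -; grind)) 2 * h1 - 2 * h23 + 2 * h32
    · clear * -; grind
    · clear * -; grind
  have hne : x1 * x1 ≠ 1 := fun f => by
    rw [f] at hu
    exact one_ne_zero (α := QC (ρ i) (ρ j)) (by linear_combination (norm := (clear * -; grind)) -hu)
  rcases h.ac_cases hy (hy.conj i) with f | f | f | f | f <;> rw [e1] at f
  · have f' : 2 - 4 * (x1 * x1) = 6 := QC.ext f
    have : x1 * x1 = -1 := cancel_nat 4 (by linear_combination (norm := (clear * -; grind)) -f')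
    rw [this] at hu
    exact (false_of_nat (R := QC (ρ i) (ρ j)) 3 (by linear_combination (norm := (clear * -; grind)) hu)).elim
  · exfalso
    have f' : 2 - 4 * (x1 * x1) = -6 := QC.ext f
    have g : x1 * x1 = 2 := cancel_nat 4 (by linear_combination (norm := (clear * -; grind)) -f')
    have g2 : x2 = 0 := cancel_nat 2 (by linear_combination (norm := (clear * -; grind)) x1 * h12 - g * x2)
    have g3 : x3 = 0 := cancel_nat 2 (by linear_combination (norm := (clear * -; grind)) x1 * h13 - g * x3)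
    subst g2 g3
    have e2 := Q.conj_j e
    have e3 := h.free.bar_inv (hy.conj j)
    rw [e2] at e3
    have e4 : 2 * ρ (y * (j * y * j⁻¹)⁻¹ * i) = ((x1 - x0 * x1 : QC (ρ i) (ρ j)) : A) := by
      refine cancel_nat 2 ?_
      rw [map_mul, map_mul, show 2 * (2 * (ρ y * ρ (j * y * j⁻¹)⁻¹ * ρ i)) =
        (bar ρ y - 1) * (bar ρ (j * y * j⁻¹)⁻¹ - 1) * ρ i by unfold bar; grind, e, e3, qq_neg,
        qq_one (I := ρ i) (J := ρ j), qq_sub, qq_sub, Q.qu.mul, Q.qu.mul_i, qq_coe, ofNat_mul_qq]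
      congr 1
      · linear_combination (norm := (clear * -; grind)) h1
      · linear_combination (norm := (clear * -; grind)) -h0 - g
      · clear * -; grind
      · clear * -; grind
    have e5 : (x1 - x0 * x1) * (x1 - x0 * x1) = 4 := by
      linear_combination (norm := (clear * -; grind)) g - h1 * x1 + x0 * h1 * x1 - h0 * x1 * x1 + g
    have e6 : ρ (y * (j * y * j⁻¹)⁻¹ * i) * ρ (y * (j * y * j⁻¹)⁻¹ * i) = 1 := by
      refine cancel_nat 4 ?_
      have e7 := congrArg QC.val e5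
      rw [QC.coe_mul, ← e4] at e7
      have e8 : ((4 : QC (ρ i) (ρ j)) : A) = 4 := rfl
      linear_combination (norm := (clear * -; grind)) e7 + e8
    rcases h.free.eq_or_of_sq e6 with e7 | e7 <;> rw [e7] at e4
    · have e8 : x1 - x0 * x1 = 2 := QC.ext (by rw [← e4, mul_one]; rfl)
      have e9 : x1 = 1 - x0 := cancel_nat 2 (by
        linear_combination (norm := (clear * -; grind)) -e8 * x1 + g - x0 * g)
      have e10 : x0 = -1 := cancel_nat 2 (by
        rw [e9] at g; linear_combination (norm := (clear * -; grind)) h0 - g)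
      rw [e10] at h0
      exact false_of_nat (R := QC (ρ i) (ρ j)) 2 (by linear_combination (norm := (clear * -; grind)) h0)
    · have e8 : x1 - x0 * x1 = -2 := QC.ext (by rw [← e4, mul_neg, mul_one]; rfl)
      have e9 : x1 = x0 - 1 := cancel_nat 2 (by
        linear_combination (norm := (clear * -; grind)) e8 * x1 - g + x0 * g)
      have e10 : x0 = -1 := cancel_nat 2 (by
        rw [e9] at g; linear_combination (norm := (clear * -; grind)) h0 - g)
      rw [e10] at h0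
      exact false_of_nat (R := QC (ρ i) (ρ j)) 2 (by linear_combination (norm := (clear * -; grind)) h0)
  · have f' : 2 - 4 * (x1 * x1) = -2 := QC.ext f
    exact (hne (cancel_nat 4 (by linear_combination (norm := (clear * -; grind)) -f'))).elim
  · have f' : 2 - 4 * (x1 * x1) = 2 := QC.ext f
    exact cancel_nat 4 (by linear_combination (norm := (clear * -; grind)) -f')
  · have f' : (2 - 4 * (x1 * x1)) * (2 - 4 * (x1 * x1)) = 20 := QC.ext f
    exact (hne (cancel_nat 16 (by linear_combination (norm := (clear * -; grind)) f' - 16 * hu))).elim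

/-- An element of order three is a pure quaternion. -/
theorem x0_eq_zero (h : ZS ρ) (Q : QT ρ i j c) (hy : O3 y)
    (e : bar ρ y = qq (ρ i) (ρ j) x0 x1 x2 x3) : x0 = 0 := by
  rcases Q.rel_c h hy e with ⟨f, -⟩ | ⟨a0, b0⟩
  · exact f
  rcases Q.rel_c h (hy.conj i) (Q.conj_i e) with ⟨f, -⟩ | ⟨a1, b1⟩
  · exact f
  rcases Q.rel_c h (hy.conj j) (Q.conj_j e) with ⟨f, -⟩ | ⟨a2, b2⟩
  · exact f
  rcases Q.rel_c h (hy.conj (i * j)) (Q.conj_k e) with ⟨f, -⟩ | ⟨a3, b3⟩
  · exact f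
  exfalso
  obtain ⟨s0, s1, s2, s3⟩ := Q.sq_comps h.free hy e
  have h1 : x0 * x1 + x1 * x0 = 0 := cancel_nat 2 (by linear_combination (norm := (clear * -; grind)) b0 + b1)
  have h2 : x0 * x2 + x2 * x0 = 0 := cancel_nat 2 (by linear_combination (norm := (clear * -; grind)) b0 + b2)
  have h3 : x0 * x3 + x3 * x0 = 0 := cancel_nat 2 (by linear_combination (norm := (clear * -; grind)) b0 + b3)
  have h0 : x0 * x0 = -1 := cancel_nat 8 (by
    linear_combination (norm := (clear * -; grind)) -a0 - a1 - a2 - a3 - 4 * s0)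
  have hs : x1 * x1 + x2 * x2 + x3 * x3 = 2 := by linear_combination (norm := (clear * -; grind)) h0 - s0
  have h12 : x1 * x2 = 0 := cancel_nat 8 (by
    linear_combination (norm := (clear * -; grind)) a0 - a1 - a2 + a3 + 4 * s3 - 4 * h3)
  have h21 : x2 * x1 = 0 := by linear_combination (norm := (clear * -; grind)) h12 + h3 - s3
  have h23 : x2 * x3 = 0 := cancel_nat 8 (by
    linear_combination (norm := (clear * -; grind)) a0 + a1 - a2 - a3 + 4 * s1 - 4 * h1)
  have h32 : x3 * x2 = 0 := by linear_combination (norm := (clear * -; grind)) h23 + h1 - s1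
  have h31 : x3 * x1 = 0 := cancel_nat 8 (by
    linear_combination (norm := (clear * -; grind)) a0 - a1 + a2 - a3 + 4 * s2 - 4 * h2)
  have h13 : x1 * x3 = 0 := by linear_combination (norm := (clear * -; grind)) h31 + h2 - s2
  have g1 := Q.bad_sq h hy e h0 h1 h2 h3 h12 h21 h13 h31 h23 h32 hs
  have g2 := Q.bad_sq h (hy.conj c) (Q.conj_c e) h0 h2 h3 h1 h23 h32 h21 h12 h31 h13
    (by linear_combination (norm := (clear * -; grind)) hs)
  have g3 := Q.bad_sq h ((hy.conj c).conj c) (Q.conj_c (Q.conj_c e)) h0 h3 h1 h2 h31 h13 h32 h23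
    h12 h21 (by linear_combination (norm := (clear * -; grind)) hs)
  exact false_of_nat (R := QC (ρ i) (ρ j)) 2 (by linear_combination (norm := (clear * -; grind)) g1 + g2 + g3 - hs)

end QT

end CfsgLib.FrobCompl
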