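import Mathlib
import Cfsg.Agent.Lib.FrobCompl.Quat3

/-!
# The elements of order three of a Frobenius complement, II
-/

set_option autoImplicit false

namespace CfsgLib.FrobCompl

variable {G A : Type*} [Group G] [Ring A] [Algebra ℚ A] {ρ : G →* A}

/-- The standard icosahedral element of order three. -/
def Std (ρ : G →* A) (i j y : G) (f : QC (ρ i) (ρ j)) : Prop :=
  bar ρ y = qq (ρ i) (ρ j) 0 0 (f - 1) f

/-- The subgroup generated by `i, j, c`. -/
def TT (i j c : G) : Subgroup G := Subgroup.closure {i, j, c}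

theorem i_mem_TT (i j c : G) : i ∈ TT i j c := Subgroup.subset_closure (by simp)
theorem j_mem_TT (i j c : G) : j ∈ TT i j c := Subgroup.subset_closure (by simp)
theorem c_mem_TT (i j c : G) : c ∈ TT i j c := Subgroup.subset_closure (by simp)

theorem pair_aux {R : Type*} [Ring R] [Algebra ℚ R] [Nontrivial R] {a b c d : R}
    (hs : a + b + c + d = 0) (ha : a = 1 ∨ a = -1) (hb : b = 1 ∨ b = -1) (hc : c * c = 5)
    (hd : d * d = 5) : a + b = 0 := by
  rcases ha with rfl | rfl <;> rcases hb with rfl | rfl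
  · have e : d = -2 - c := by linear_combination (norm := (clear * -; grind)) hs
    rw [e] at hd
    have e2 : c = -1 := cancel_nat 4 (by linear_combination (norm := (clear * -; grind)) hd - hc)
    rw [e2] at hc
    exact (false_of_nat (R := R) 4 (by linear_combination (norm := (clear * -; grind)) -hc)).elim
  · simp
  · simp
  · have e : d = 2 - c := by linear_combination (norm := (clear * -; grind)) hs
    rw [e] at hd
    have e2 : c = 1 := cancel_nat 4 (by linear_combination (norm := (clear * -; grind)) hc - hd)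
    rw [e2] at hc
    exact (false_of_nat (R := R) 4 (by linear_combination (norm := (clear * -; grind)) -hc)).elim

theorem four_aux {R : Type*} [Ring R] [Algebra ℚ R] [Nontrivial R] {a b c d : R}
    (hs : a + b + c + d = 0) (h12 : a * a + b * b + c * c + d * d = 12)
    (ha : (a = 1 ∨ a = -1) ∨ a * a = 5) (hb : (b = 1 ∨ b = -1) ∨ b * b = 5)
    (hc : (c = 1 ∨ c = -1) ∨ c * c = 5) (hd : (d = 1 ∨ d = -1) ∨ d * d = 5) :
    ((a = 1 ∨ a = -1) ∧ (a + b = 0 ∨ a + c = 0 ∨ a + d = 0)) ∨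
      ((b = 1 ∨ b = -1) ∧ (b + c = 0 ∨ b + d = 0)) ∨ ((c = 1 ∨ c = -1) ∧ c + d = 0) := by
  have sq : ∀ x : R, x = 1 ∨ x = -1 → x * x = 1 := by
    rintro x (rfl | rfl) <;> simp
  have f4 : (4 : R) = 0 → False := false_of_nat 4
  have f8 : (8 : R) = 0 → False := false_of_nat 8
  rcases ha with ha | ha <;> rcases hb with hb | hb <;> rcases hc with hc | hc <;>
    rcases hd with hd | hd
  · exact (f8 (by linear_combination (norm := (clear * -; grind)) sq a ha + sq b hb + sq c hc + sq d hd - h12)).elim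
  · exact (f4 (by linear_combination (norm := (clear * -; grind)) sq a ha + sq b hb + sq c hc + hd - h12)).elim
  · exact (f4 (by linear_combination (norm := (clear * -; grind)) sq a ha + sq b hb + hc + sq d hd - h12)).elim
  · exact Or.inl ⟨ha, Or.inl (pair_aux hs ha hb hc hd)⟩
  · exact (f4 (by linear_combination (norm := (clear * -; grind)) sq a ha + hb + sq c hc + sq d hd - h12)).elim
  · exact Or.inl ⟨ha, Or.inr (Or.inl (pair_aux (by rw [← hs]; abel) ha hc hb hd))⟩
  · exact Or.inl ⟨ha, Or.inr (Or.inr (pair_aux (by rw [← hs]; abel) ha hd hb hc))⟩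
  · exact (f4 (by linear_combination (norm := (clear * -; grind)) h12 - sq a ha - hb - hc - hd)).elim
  · exact (f4 (by linear_combination (norm := (clear * -; grind)) ha + sq b hb + sq c hc + sq d hd - h12)).elim
  · exact Or.inr (Or.inl ⟨hb, Or.inl (pair_aux (by rw [← hs]; abel) hb hc ha hd)⟩)
  · exact Or.inr (Or.inl ⟨hb, Or.inr (pair_aux (by rw [← hs]; abel) hb hd ha hc)⟩)
  · exact (f4 (by linear_combination (norm := (clear * -; grind)) h12 - ha - sq b hb - hc - hd)).elim
  · exact Or.inr (Or.inr ⟨hc, pair_aux (by rw [← hs]; abel) hc hd ha hb⟩)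
  · exact (f4 (by linear_combination (norm := (clear * -; grind)) h12 - ha - hb - sq c hc - hd)).elim
  · exact (f4 (by linear_combination (norm := (clear * -; grind)) h12 - ha - hb - hc - sq d hd)).elim
  · exact (f8 (by linear_combination (norm := (clear * -; grind)) h12 - ha - hb - hc - hd)).elim

namespace QT

variable {i j c y y' : G} {x0 x1 x2 x3 f g : QC (ρ i) (ρ j)}

theorem std_sq (h : IsFree ρ) (Q : QT ρ i j c) (hy : O3 y) (e : Std ρ i j y f) :
    f * f = f + 1 := by
  have := (Q.sq_comps h hy e).1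
  exact cancel_nat 2 (by linear_combination (norm := (clear * -; grind)) -this)

theorem std_of (Q : QT ρ i j c) (e : bar ρ y = qq (ρ i) (ρ j) 0 0 x2 x3)
    (h : (x2 + x3 = 1 ∨ x2 + x3 = -1) ∨ (x2 - x3 = 1 ∨ x2 - x3 = -1)) :
    ∃ t ∈ TT i j c, ∃ f, Std ρ i j (t * y * t⁻¹) f := by
  rcases h with (h | h) | (h | h)
  · refine ⟨i * j, mul_mem (i_mem_TT _ _ _) (j_mem_TT _ _ _), x3, (Q.conj_k e).trans ?_⟩
    congr 1
    · simp
    · linear_combination (norm := (clear * -; grind)) -h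
  · refine ⟨j, j_mem_TT _ _ _, -x3, (Q.conj_j e).trans ?_⟩
    congr 1
    · simp
    · linear_combination (norm := (clear * -; grind)) h
  · refine ⟨i, i_mem_TT _ _ _, -x3, (Q.conj_i e).trans ?_⟩
    congr 1
    linear_combination (norm := (clear * -; grind)) -h
  · refine ⟨1, one_mem _, x3, ?_⟩
    rw [Std, one_mul, inv_one, mul_one, e]
    congr 1
    linear_combination (norm := (clear * -; grind)) h

theorem std_of' (Q : QT ρ i j c) (e : bar ρ y = qq (ρ i) (ρ j) 0 x1 x2 x3)
    (h : (x1 = 0 ∧ ((x2 + x3 = 1 ∨ x2 + x3 = -1) ∨ (x2 - x3 = 1 ∨ x2 - x3 = -1))) ∨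
      (x2 = 0 ∧ ((x3 + x1 = 1 ∨ x3 + x1 = -1) ∨ (x3 - x1 = 1 ∨ x3 - x1 = -1))) ∨
      (x3 = 0 ∧ ((x1 + x2 = 1 ∨ x1 + x2 = -1) ∨ (x1 - x2 = 1 ∨ x1 - x2 = -1)))) :
    ∃ t ∈ TT i j c, ∃ f, Std ρ i j (t * y * t⁻¹) f := by
  rcases h with ⟨rfl, h⟩ | ⟨rfl, h⟩ | ⟨rfl, h⟩
  · exact Q.std_of e h
  · obtain ⟨t, ht, f, hf⟩ := Q.std_of (Q.conj_c e) h
    refine ⟨t * c, mul_mem ht (c_mem_TT _ _ _), f, ?_⟩
    rwa [show t * c * y * (t * c)⁻¹ = t * (c * y * c⁻¹) * t⁻¹ by group]
  · obtain ⟨t, ht, f, hf⟩ := Q.std_of (Q.conj_c (Q.conj_c e)) h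
    refine ⟨t * c * c, mul_mem (mul_mem ht (c_mem_TT _ _ _)) (c_mem_TT _ _ _), f, ?_⟩
    rwa [show t * c * c * y * (t * c * c)⁻¹ = t * (c * (c * y * c⁻¹) * c⁻¹) * t⁻¹ by group]

variable [Nontrivial A]

theorem rel_c' (h : ZS ρ) (Q : QT ρ i j c) (hy : O3 y) {t : G} (ht : t ∈ TT i j c)
    (e : bar ρ (t * y * t⁻¹) = qq (ρ i) (ρ j) 0 x1 x2 x3) :
    y ∈ TT i j c ∨ (x1 + x2 + x3 = 1 ∨ x1 + x2 + x3 = -1) ∨
      (x1 + x2 + x3) * (x1 + x2 + x3) = 5 := by
  have key : t * y * t⁻¹ ∈ TT i j c → y ∈ TT i j c := fun hm => by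
    have := mul_mem (mul_mem (inv_mem ht) hm) ht
    rwa [show t⁻¹ * (t * y * t⁻¹) * t = y by group] at this
  rcases Q.rel_c h (hy.conj t) e with ⟨-, f | f | f | f⟩ | ⟨f, -⟩
  · exact Or.inl (key (f ▸ inv_mem (c_mem_TT _ _ _)))
  · exact Or.inl (key (f ▸ c_mem_TT _ _ _))
  · exact Or.inr (Or.inl (Or.inl f))
  · exact Or.inr (Or.inl (Or.inr f))
  · exact Or.inr (Or.inr (by rw [f, mul_zero, mul_zero, add_zero]))

/-- An element of order three lies in the binary tetrahedral group or is conjugate under it to a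
standard element. -/
theorem mem_or_std (h : ZS ρ) (Q : QT ρ i j c) (hy : O3 y) :
    y ∈ TT i j c ∨ ∃ t ∈ TT i j c, ∃ f, Std ρ i j (t * y * t⁻¹) f := by
  obtain ⟨x0, x1, x2, x3, e⟩ := Q.qu.surj (bar ρ y)
  obtain rfl := Q.x0_eq_zero h hy e
  rcases Q.rel_c' h hy (one_mem _) (by simpa using e) with f | a0
  · exact Or.inl f
  rcases Q.rel_c' h hy (i_mem_TT _ _ _) (Q.conj_i e) with f | a1
  · exact Or.inl f
  rcases Q.rel_c' h hy (j_mem_TT _ _ _) (Q.conj_j e) with f | a2
  · exact Or.inl f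
  rcases Q.rel_c' h hy (mul_mem (i_mem_TT _ _ _) (j_mem_TT _ _ _)) (Q.conj_k e) with f | a3
  · exact Or.inl f
  right
  have s0 := (Q.sq_comps h.free hy e).1
  refine Q.std_of' e ?_
  rcases four_aux (by grind) (by linear_combination (norm := (clear * -; grind)) -4 * s0) a0 a1 a2 a3 with
    ⟨b, f | f | f⟩ | ⟨b, f | f⟩ | ⟨b, f⟩
  · obtain rfl : x1 = 0 := cancel_nat 2 (by linear_combination (norm := (clear * -; grind)) f)
    exact Or.inl ⟨rfl, Or.inl (by simpa using b)⟩
  · obtain rfl : x2 = 0 := cancel_nat 2 (by linear_combination (norm := (clear * -; grind)) f)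
    exact Or.inr (Or.inl ⟨rfl, Or.inl (by simpa [add_comm] using b)⟩)
  · obtain rfl : x3 = 0 := cancel_nat 2 (by linear_combination (norm := (clear * -; grind)) f)
    exact Or.inr (Or.inr ⟨rfl, Or.inl (by simpa using b)⟩)
  · obtain rfl : x3 = 0 := cancel_nat 2 (by linear_combination (norm := (clear * -; grind)) -f)
    exact Or.inr (Or.inr ⟨rfl, Or.inr (by simpa [sub_eq_add_neg] using b)⟩)
  · obtain rfl : x2 = 0 := cancel_nat 2 (by linear_combination (norm := (clear * -; grind)) -f)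
    refine Or.inr (Or.inl ⟨rfl, Or.inr (b.symm.imp (fun b => ?_) (fun b => ?_))⟩)
    · linear_combination (norm := (clear * -; grind)) -b
    · linear_combination (norm := (clear * -; grind)) -b
  · obtain rfl : x1 = 0 := cancel_nat 2 (by linear_combination (norm := (clear * -; grind)) -f)
    exact Or.inl ⟨rfl, Or.inr (by simpa [sub_eq_add_neg] using b)⟩

/-- The standard element is unique. -/
theorem std_unique (h : ZS ρ) (Q : QT ρ i j c) (hy : O3 y) (hy' : O3 y') (e : Std ρ i j y f)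
    (e' : Std ρ i j y' g) : y = y' := by
  have hf := Q.std_sq h.free hy e
  have hg := Q.std_sq h.free hy' e'
  unfold Std at e e'
  obtain ⟨n, hn⟩ : ∃ n, n = f * g + g * f - f - g := ⟨_, rfl⟩
  obtain ⟨k, hk⟩ : ∃ k, k = f * g - g * f := ⟨_, rfl⟩
  have hkk : k * k = n * n + n - 6 := by
    rw [hn, hk]
    linear_combination (norm := (clear * -; grind)) - 3 * hf - 3 * hg + hf * g + g * hf + hg * f + f * hg -
      2 * g * hf * g - 2 * f * hg * f
  have hnk2 : (n + f - g) * k + k * (n + f - g) = 2 * (n * k) := by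
    rw [hn, hk]
    linear_combination (norm := (clear * -; grind)) 2 * hf * g - 2 * f * hg - 2 * g * hf * g - 2 * hg +
      2 * f * hg * f + 2 * hf
  have e1 : ac ρ y y' = ((-(2 * n) - 2 : QC (ρ i) (ρ j)) : A) := by
    rw [ac, e, e', Q.qu.mul, Q.qu.mul, qq_add, qq_coe, hn]
    congr 1 <;> (clear * -; grind)
  have e2 : ac ρ y (j * y' * j⁻¹) = qq (ρ i) (ρ j) (2 * (f + g - 1)) (-(2 * k)) 0 0 := by
    rw [ac, e, Q.conj_j e', Q.qu.mul, Q.qu.mul, qq_add, hk]
    congr 1 <;> (clear * -; grind)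
  have e3 : ac ρ y (c * y' * c⁻¹) = qq (ρ i) (ρ j) (-(n + f - g)) (-k) k (-k) := by
    rw [ac, e, Q.conj_c e', Q.qu.mul, Q.qu.mul, qq_add, hn, hk]
    congr 1 <;> (clear * -; grind)
  have hnk : n * k = 0 := by
    have key : ∀ a : QC (ρ i) (ρ j), ac ρ y (c * y' * c⁻¹) = a → n * k = 0 := by
      intro a ha
      rw [e3, qq_coe a] at ha
      rw [(Q.qu.inj ha).2.2.1, mul_zero]
    rcases h.ac_cases hy (hy'.conj c) with u | u | u | u | u
    · exact key 6 u
    · exact key (-6) u
    · exact key (-2) u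
    · exact key 2 u
    · rw [e3, Q.qu.mul, qq_ofNat (I := ρ i) (J := ρ j) 20] at u
      exact cancel_nat 2 (by linear_combination (norm := (clear * -; grind)) (Q.qu.inj u).2.1 - hnk2)
  rcases h.ac_cases hy hy' with u | u | u | u | u
  · exfalso
    have u' : -(2 * n) - 2 = 6 := QC.ext (e1.symm.trans u)
    obtain rfl : n = -4 := cancel_nat 2 (by linear_combination (norm := (clear * -; grind)) -u')
    have : k = 0 := cancel_nat 4 (by linear_combination (norm := (clear * -; grind)) -hnk)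
    rw [this] at hkk
    exact false_of_nat (R := QC (ρ i) (ρ j)) 6 (by linear_combination (norm := norm_num) -hkk)
  · exact h.free.eq_of_ac hy hy' u
  · exfalso
    have u' : -(2 * n) - 2 = -2 := QC.ext (e1.symm.trans u)
    have hn0 : n = 0 := cancel_nat 2 (by linear_combination (norm := (clear * -; grind)) -u')
    rw [hn0] at hkk
    have key : ∀ a : QC (ρ i) (ρ j), ac ρ y (j * y' * j⁻¹) = a → False := by
      intro a ha
      rw [e2, qq_coe a] at ha
      have : k = 0 := cancel_nat 2 (by linear_combination (norm := (clear * -; grind)) -(Q.qu.inj ha).2.1)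
      rw [this] at hkk
      exact false_of_nat (R := QC (ρ i) (ρ j)) 6 (by linear_combination (norm := norm_num) hkk)
    rcases h.ac_cases hy (hy'.conj j) with v | v | v | v | v
    · exact key 6 v
    · exact key (-6) v
    · exact key (-2) v
    · exact key 2 v
    · rw [e2, Q.qu.mul, qq_ofNat (I := ρ i) (J := ρ j) 20] at v
      exact false_of_nat (R := QC (ρ i) (ρ j)) 16 (by
        linear_combination (norm := (clear * -; grind)) (Q.qu.inj v).1 + 4 * hkk - 4 * hf - 4 * hg + 4 * hn -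
          4 * hn0)
  · exfalso
    have u' : -(2 * n) - 2 = 2 := QC.ext (e1.symm.trans u)
    obtain rfl : n = -2 := cancel_nat 2 (by linear_combination (norm := (clear * -; grind)) -u')
    have : k = 0 := cancel_nat 2 (by linear_combination (norm := (clear * -; grind)) -hnk)
    rw [this] at hkk
    exact false_of_nat (R := QC (ρ i) (ρ j)) 4 (by linear_combination (norm := norm_num) hkk)
  · exfalso
    rw [e1] at u
    have u' : (-(2 * n) - 2) * (-(2 * n) - 2) = 20 := QC.ext u
    have u2 : n * n + 2 * n = 4 := cancel_nat 4 (by linear_combination (norm := (clear * -; grind)) u')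
    have : k = 0 := cancel_nat 4 (by
      linear_combination (norm := (clear * -; grind)) n * hnk + 2 * hnk - u2 * k)
    rw [this] at hkk
    have hn2 : n = -2 := by linear_combination (norm := (clear * -; grind)) u2 + hkk
    rw [hn2] at u2
    exact false_of_nat (R := QC (ρ i) (ρ j)) 4 (by linear_combination (norm := (clear * -; grind)) -u2)

end QT

omit [Algebra ℚ A] in
theorem IsFree.qt_of_tr (h : IsFree ρ) {a b : G} (ha' : O3 a) (hb' : O3 b)
    (ht : tr ρ (a * b) = 0) : QT ρ (a * b)⁻¹ (b * a)⁻¹ a := by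
  rw [h.tr_mul_three ha'.1 ha'.2 hb'.1 hb'.2] at ht
  have ha := h.three ha'.1 ha'.2
  have hb := h.three hb'.1 hb'.2
  have h1 : ρ (a * b) * ρ (a * b) = -1 := by
    rw [map_mul]
    linear_combination (norm := (clear * -; grind)) ht * ρ a * ρ b - ρ b * ha * ρ b + hb - ha * ρ b
  have h2 : ρ (b * a) * ρ (b * a) = -1 := by
    rw [map_mul]
    linear_combination (norm := (clear * -; grind)) ht * ρ b * ρ a - ρ a * hb * ρ a - hb * ρ a + ha
  refine ⟨⟨?_, ?_, ?_⟩, ?_⟩
  · rw [rho_inv_of_sq h1, neg_mul_neg, h1]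
  · rw [rho_inv_of_sq h2, neg_mul_neg, h2]
  · rw [rho_inv_of_sq h1, rho_inv_of_sq h2, map_mul, map_mul]
    linear_combination (norm := (clear * -; grind)) ρ b * ha * ρ b - ht * ρ b + ρ a * hb + ρ a * hb * ρ a -
      ht * ρ a + ρ b * ha
  · rw [bar, rho_inv_of_sq h1, rho_inv_of_sq h2, map_mul, map_mul]
    linear_combination (norm := (clear * -; grind)) ht - ρ a * hb * ρ a + ht * ρ a - ρ b * ha

omit [Algebra ℚ A] in
theorem ZS.exists_qt [Nontrivial A] (h : ZS ρ) {a b : G} (ha : O3 a) (hb : O3 b) (h1 : b ≠ a)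
    (h2 : b ≠ a⁻¹) : ∃ b', O3 b' ∧ QT ρ (a * b')⁻¹ (b' * a)⁻¹ a := by
  have hs := h.free.tr_add_tr ha.1 ha.2 hb.1 hb.2
  rcases h.free.tr_cases (h.cases a b ha hb) with e | e | e | e | e
  · exact absurd (eq_inv_of_mul_eq_one_right (h.free.eq_one_of_tr e)) h2
  · exact absurd (mul_inv_eq_one.1 (h.free.eq_one_of_tr
      (by linear_combination (norm := (clear * -; grind)) hs - e))).symm h1
  · exact ⟨b, hb, h.free.qt_of_tr ha hb e⟩
  · exact ⟨b⁻¹, hb.inv, h.free.qt_of_tr ha hb.inv (by linear_combination (norm := (clear * -; grind)) hs - e)⟩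
  · refine ⟨b * a * b⁻¹, ha.conj b, h.free.qt_of_tr ha (ha.conj b) ?_⟩
    rw [h.free.tr_mul_three ha.1 ha.2 hb.1 hb.2] at e
    rw [h.free.tr_mul_three ha.1 ha.2 (ha.conj b).1 (ha.conj b).2, map_mul, map_mul,
      h.free.inv_three hb.1 hb.2]
    have ha := h.free.three ha.1 ha.2
    have hb := h.free.three hb.1 hb.2
    linear_combination (norm := (clear * -; grind)) - e + ha * ρ b + hb * ρ a + ρ a * hb + ρ b * ha * ρ b +
      ρ a * hb * ρ a

end CfsgLib.FrobCompl
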