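import Mathlib
import Cfsg.Agent.Lib.FrobCompl.Quat3b
import Cfsg.Agent.Lib.FrobCompl.Aut25
import Cfsg.Agent.Lib.FrobCompl.Struct
import Cfsg.Agent.Lib.TwoGrp.Pres
import Cfsg.Agent.Lib.SolvStruct.Util

/-!
# Zassenhaus' theorem on perfect Frobenius complements
-/

set_option autoImplicit false

namespace CfsgLib.FrobCompl

open Subgroup Frob

/-- The subgroup generated by the elements of order three. -/
def DD (G : Type*) [Group G] : Subgroup G := closure {y | O3 y}

instance DD_normal (G : Type*) [Group G] : (DD G).Normal := ⟨by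
  intro x hx g
  induction hx using closure_induction with
  | mem y hy => exact subset_closure (O3.conj hy g)
  | one => simp
  | mul a b _ _ ha hb =>
    rw [show g * (a * b) * g⁻¹ = g * a * g⁻¹ * (g * b * g⁻¹) by group]
    exact mul_mem ha hb
  | inv a _ ha =>
    rw [show g * a⁻¹ * g⁻¹ = (g * a * g⁻¹)⁻¹ by group]
    exact inv_mem ha⟩

variable {G A : Type*} [Group G] [Ring A] [Algebra ℚ A] [Nontrivial A] {ρ : G →* A}

theorem O3.mem_DD {G : Type*} [Group G] {y : G} (h : O3 y) : y ∈ DD G := subset_closure h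

theorem neg_one_ne_one' : (-1 : A) ≠ 1 := fun e =>
  false_of_nat (R := A) 2 (by linear_combination (norm := (clear * -; grind)) -e)

theorem IsFree.orderOf_eq_four (h : IsFree ρ) {i : G} (hi : ρ i * ρ i = -1) : orderOf i = 4 :=
  orderOf_eq_prime_pow (p := 2) (n := 1) (fun e => neg_one_ne_one' (A := A) (by
    rw [← hi, ← map_mul, ← sq, show i ^ 2 = 1 from e, map_one])) (h.eq_one (by
    rw [show 2 ^ (1 + 1) = 2 * 2 by rfl, pow_mul, map_pow, map_pow, sq (ρ i), hi]; simp))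

namespace QT

variable {i j c y : G} {f : QC (ρ i) (ρ j)}

theorem not_comm (Q : QT ρ i j c) : i * j ≠ j * i := fun e => by
  have h1 := Q.qu.ji
  rw [← map_mul, ← e, map_mul, qq_k, qq_neg] at h1
  exact neg_one_ne_one' (Q.qu.inj h1).2.2.2.symm

theorem conj_ji (h : IsFree ρ) (Q : QT ρ i j c) : j * i * j⁻¹ = i⁻¹ := h.injective (by
  rw [map_mul, map_mul, rho_inv_of_sq Q.qu.ii, rho_inv_of_sq Q.qu.jj]
  linear_combination (norm := (clear * -; grind)) -Q.qu.ji * ρ j + ρ i * Q.qu.jj)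

theorem conj_ci (h : IsFree ρ) (Q : QT ρ i j c) : c * i * c⁻¹ = i * j := by
  rw [mul_inv_eq_iff_eq_mul]
  refine h.injective (cancel_nat 2 ?_)
  rw [map_mul, map_mul, map_mul, ← mul_assoc, show 2 * (ρ i * ρ j * ρ c) =
    ρ i * (ρ j * (2 * ρ c)) by grind, Q.two_c, Q.qu.mul_i, Q.qu.j_mul, Q.qu.i_mul]
  congr 1 <;> (clear * -; grind)

theorem conj_cj (h : IsFree ρ) (Q : QT ρ i j c) : c * j * c⁻¹ = i := by
  rw [mul_inv_eq_iff_eq_mul]
  refine h.injective (cancel_nat 2 ?_)
  rw [map_mul, map_mul, ← mul_assoc, show 2 * (ρ i * ρ c) = ρ i * (2 * ρ c) by grind, Q.two_c,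
    Q.qu.mul_j, Q.qu.i_mul]

theorem equiv_Q8 (h : IsFree ρ) (Q : QT ρ i j c) : Nonempty (↥(zpowers i ⊔ zpowers j) ≃* Q8) :=
  TwoGrp.nonempty_sup_mulEquiv_quaternion (h.orderOf_eq_four Q.qu.ii)
    (h.injective (by rw [map_mul, map_pow, sq, Q.qu.ii, Q.qu.jj])) (Q.conj_ji h) (by
      rintro ⟨k, rfl⟩
      exact Q.not_comm (Commute.self_zpow i k))

theorem mem_normalizer_of [Finite G] {g : G} (h1 : g * i * g⁻¹ ∈ zpowers i ⊔ zpowers j)
    (h2 : g * j * g⁻¹ ∈ zpowers i ⊔ zpowers j) :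
    g ∈ normalizer ((zpowers i ⊔ zpowers j : Subgroup G) : Set G) := by
  apply mem_normalizer_fintype
  intro x hx
  have : zpowers i ⊔ zpowers j ≤ (zpowers i ⊔ zpowers j).comap (MulAut.conj g).toMonoidHom :=
    sup_le (zpowers_le.2 h1) (zpowers_le.2 h2)
  exact this hx

theorem mem_of_four [Finite G] (h : IsFree ρ) (Q : QT ρ i j c) {x : G} (hx : x ∈ TT i j c)
    (h4 : x ^ 4 = 1) : x ∈ zpowers i ⊔ zpowers j := by
  set K := zpowers i ⊔ zpowers j
  have hi : i ∈ K := mem_sup_left (mem_zpowers i)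
  have hj : j ∈ K := mem_sup_right (mem_zpowers j)
  have hc : c ∈ normalizer (K : Set G) :=
    mem_normalizer_of (by rw [Q.conj_ci h]; exact mul_mem hi hj) (by rw [Q.conj_cj h]; exact hi)
  let π := QuotientGroup.mk' (K.subgroupOf (normalizer (K : Set G)))
  have h1 : TT i j c ≤ ((zpowers (π ⟨c, hc⟩)).comap π).map (normalizer (K : Set G)).subtype := by
    have key : ∀ (x : G) (hx : x ∈ K), (⟨x, le_normalizer hx⟩ : normalizer (K : Set G)) ∈
        (zpowers (π ⟨c, hc⟩)).comap π := fun x hx => by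
      have : π ⟨x, le_normalizer hx⟩ = 1 := (QuotientGroup.eq_one_iff _).2 (mem_subgroupOf.2 hx)
      rw [mem_comap, this]
      exact one_mem _
    rw [TT, closure_le]
    rintro _ (rfl | rfl | rfl)
    · exact ⟨_, key _ hi, rfl⟩
    · exact ⟨_, key _ hj, rfl⟩
    · exact ⟨⟨_, hc⟩, mem_zpowers _, rfl⟩
  obtain ⟨x, ⟨k, hk⟩, rfl⟩ := h1 hx
  have h3 : π x ^ 3 = 1 := by
    rw [← hk, ← zpow_natCast, ← zpow_mul, mul_comm, zpow_mul, zpow_natCast, ← map_pow,
      show (⟨c, hc⟩ : normalizer (K : Set G)) ^ 3 = 1 from Subtype.ext (Q.o3_c h).1, map_one,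
      one_zpow]
  have h5 : π x ^ 4 = 1 := by rw [← map_pow, show x ^ 4 = 1 from Subtype.ext h4, map_one]
  rw [pow_succ, h3, one_mul] at h5
  exact mem_subgroupOf.1 ((QuotientGroup.eq_one_iff _).1 h5)

theorem exists_hom (h : IsFree ρ) (Q : QT ρ i j c) (hy : O3 y) (e : Std ρ i j y f) :
    ∃ φ : SL25 →* G, Function.Injective φ ∧ φ.range = closure {y⁻¹, y * (i * j)} ∧
      TT i j c ≤ φ.range ∧ y ∈ φ.range := by
  have hf := Q.std_sq h hy e
  have hy2 : ∀ {y : G} {x2 x3 : QC (ρ i) (ρ j)}, bar ρ y = qq (ρ i) (ρ j) 0 0 x2 x3 →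
      2 * ρ y = qq (ρ i) (ρ j) (-1) 0 x2 x3 := fun {y x2 x3} e => by
    rw [show 2 * ρ y = bar ρ y - 1 by simp [bar], e, qq_one (I := ρ i) (J := ρ j), qq_sub]
    congr 1 <;> simp
  have hk : ρ (i * j) * ρ (i * j) = -1 := by
    rw [map_mul, qq_k (I := ρ i) (J := ρ j), Q.qu.mul, qq_one (I := ρ i) (J := ρ j), qq_neg]
    congr 1 <;> (clear * -; grind)
  have hz : ρ ((i * j) ^ 2) = -1 := by rw [sq, map_mul, hk]
  have hzc : ∀ g : G, (i * j) ^ 2 * g = g * (i * j) ^ 2 := fun g => h.injective (by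
    rw [map_mul, map_mul, hz]; simp)
  have hw : 2 * ρ (y * (i * j)) = qq (ρ i) (ρ j) (-f) (f - 1) 0 (-1) := by
    rw [map_mul, map_mul, ← mul_assoc, ← mul_assoc, hy2 e, Q.qu.mul_i, Q.qu.mul_j]
    congr 1 <;> (clear * -; grind)
  have h1 : ρ (y * (i * j)) * ρ (y * (i * j)) + f * ρ (y * (i * j)) + 1 = 0 := by
    have h2 : 2 * ρ (y * (i * j)) * (2 * ρ (y * (i * j))) +
        ((2 * f : QC (ρ i) (ρ j)) : A) * (2 * ρ (y * (i * j))) + 4 = 0 := by
      rw [hw, Q.qu.mul, coe_mul_qq, qq_ofNat (I := ρ i) (J := ρ j) 4, qq_add, qq_add,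
        qq_zero (I := ρ i) (J := ρ j)]
      congr 1
      · linear_combination (norm := (clear * -; grind)) -2 * hf
      all_goals (clear * -; grind)
    rw [QC.coe_mul, QC.coe_ofNat] at h2
    exact cancel_nat 4 (by linear_combination (norm := (clear * -; grind)) h2)
  have hw5 : (y * (i * j)) ^ 5 = 1 := h.eq_one (by
    rw [map_pow]
    have hf' : (f : A) * f = f + 1 := congrArg QC.val hf
    generalize ρ (y * (i * j)) = w at h1
    linear_combination (norm := (clear * -; grind)) h1 * w * w * w - (f : A) * h1 * w * w +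
      hf' * w * w * w + (f : A) * h1 * w - hf' * w * w - h1)
  obtain ⟨φ, -, -, h3, h4⟩ := exists_hom_SL25 hy.inv.1 hw5 (z := (i * j) ^ 2)
    (h.eq_one (by rw [map_pow, hz]; simp)) (hzc _) (hzc _) (by rw [inv_mul_cancel_left])
  have m1 : y⁻¹ ∈ φ.range := h3 ▸ subset_closure (by simp)
  have m2 : y * (i * j) ∈ φ.range := h3 ▸ subset_closure (by simp)
  have m3 : y ∈ φ.range := by simpa using inv_mem m1
  have m4 : i * j ∈ φ.range := by simpa using mul_mem m1 m2
  have m5 : c ∈ φ.range := by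
    have : y * c = i * j * y * (i * j)⁻¹ * y := h.injective (cancel_nat 4 (by
      rw [map_mul, map_mul, show 4 * (ρ y * ρ c) = 2 * ρ y * (2 * ρ c) by grind,
        show 4 * (ρ (i * j * y * (i * j)⁻¹) * ρ y) =
          2 * ρ (i * j * y * (i * j)⁻¹) * (2 * ρ y) by grind, hy2 e,
        hy2 (by simpa only [neg_zero] using Q.conj_k e : bar ρ (i * j * y * (i * j)⁻¹) = _), Q.two_c, Q.qu.mul, Q.qu.mul]
      congr 1
      · clear * -; grind
      · linear_combination (norm := (clear * -; grind)) 2 * hf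
      all_goals (clear * -; grind)))
    rw [← inv_mul_cancel_left y c, this]
    exact mul_mem m1 (mul_mem (mul_mem (mul_mem m4 m3) (inv_mem m4)) m3)
  have m6 : i ∈ φ.range := by
    have := mul_mem (mul_mem (inv_mem m5) m4) m5
    rwa [← Q.conj_ci h, show c⁻¹ * (c * i * c⁻¹) * c = i by group] at this
  refine ⟨φ, h4 fun e => neg_one_ne_one' (A := A) (by rw [← hz, e, map_one]), h3, ?_, m3⟩
  rw [TT, closure_le]
  rintro _ (rfl | rfl | rfl)
  · exact m6
  · simpa using mul_mem (inv_mem m6) m4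
  · exact m5

end QT

/-- The structure of the subgroup generated by the elements of order three. -/
theorem ZS.trichotomy [Finite G] (h : ZS ρ) :
    (∀ a b : G, O3 a → O3 b → b = a ∨ b = a⁻¹) ∨
    (∃ Q : Subgroup G, Q.Normal ∧ Nonempty (Q ≃* Q8)) ∨
    ∃ (i j c y : G) (f : QC (ρ i) (ρ j)) (φ : SL25 →* G), QT ρ i j c ∧ O3 y ∧ Std ρ i j y f ∧
      Function.Injective φ ∧ φ.range = DD G ∧ TT i j c ≤ φ.range := by
  refine or_iff_not_imp_left.2 fun h1 => ?_
  push Not at h1
  obtain ⟨a, b, ha, hb, h1, h2⟩ := h1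
  obtain ⟨b', hb', Q⟩ := h.exists_qt ha hb h1 h2
  have hi : (a * b')⁻¹ ∈ DD G := inv_mem (mul_mem ha.mem_DD hb'.mem_DD)
  have hj : (b' * a)⁻¹ ∈ DD G := inv_mem (mul_mem hb'.mem_DD ha.mem_DD)
  generalize (a * b')⁻¹ = i at Q hi
  generalize (b' * a)⁻¹ = j at Q hj
  by_cases h3 : ∀ y : G, O3 y → y ∈ TT i j a
  · left
    have h4 : DD G ≤ TT i j a := (closure_le _).2 h3
    refine ⟨zpowers i ⊔ zpowers j, normalizer_eq_top_iff.1 (top_le_iff.1 fun g _ => ?_),
      Q.equiv_Q8 h.free⟩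
    refine QT.mem_normalizer_of (Q.mem_of_four h.free (h4 ((DD_normal G).conj_mem _ hi g)) ?_)
      (Q.mem_of_four h.free (h4 ((DD_normal G).conj_mem _ hj g)) ?_)
    · rw [conj_pow, ← h.free.orderOf_eq_four Q.qu.ii, pow_orderOf_eq_one]; simp
    · rw [conj_pow, ← h.free.orderOf_eq_four Q.qu.jj, pow_orderOf_eq_one]; simp
  · right
    push Not at h3
    obtain ⟨d, hd, hd'⟩ := h3
    obtain ⟨t, -, f, e⟩ := (Q.mem_or_std h hd).resolve_left hd'
    obtain ⟨φ, h4, h5, h6, h7⟩ := Q.exists_hom h.free (hd.conj t) e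
    refine ⟨i, j, a, _, f, φ, Q, hd.conj t, e, h4, le_antisymm ?_ ((closure_le _).2 ?_), h6⟩
    · rw [h5, closure_le]
      rintro _ (rfl | rfl)
      · exact (hd.conj t).inv.mem_DD
      · exact mul_mem (hd.conj t).mem_DD (mul_mem hi hj)
    · intro x hx
      rcases Q.mem_or_std h hx with h8 | ⟨u, hu, g, e'⟩
      · exact h6 h8
      · have := mul_mem (mul_mem (inv_mem (h6 hu)) h7) (h6 hu)
        rwa [← Q.std_unique h (O3.conj hx u) (hd.conj t) e' e,
          show u⁻¹ * (u * x * u⁻¹) * u = x by group] at this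

omit [Algebra ℚ A] [Nontrivial A] in
theorem HasFree.zs [Finite G] (h : HasFree ℂ G) (hρ : IsFree ρ) : ZS ρ :=
  ⟨hρ, fun _ _ ha hb => h.ordCases ha.1 ha.2 hb.1 hb.2⟩

section Group

variable {G : Type*} [Group G] [Finite G]

theorem HasFree.trichotomy (h : HasFree ℂ G) :
    (∀ a b : G, O3 a → O3 b → b = a ∨ b = a⁻¹) ∨
    (∃ Q : Subgroup G, Q.Normal ∧ Nonempty (Q ≃* Q8)) ∨
    ∃ φ : SL25 →* G, Function.Injective φ ∧ φ.range = DD G := by
  obtain ⟨n, ρ, hn, hρ⟩ := id h
  have : Nonempty (Fin n) := ⟨⟨0, hn⟩⟩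
  rcases (h.zs (isFree_of_fpf ρ hρ)).trichotomy with h1 | h1 | ⟨_, _, _, _, _, φ, -, -, -, h1, h2, -⟩
  · exact Or.inl h1
  · exact Or.inr (Or.inl h1)
  · exact Or.inr (Or.inr ⟨φ, h1, h2⟩)

theorem isZGroup_centralizer_SL25 (h : PQCond G) {φ : SL25 →* G} (hφ : Function.Injective φ) :
    IsZGroup (centralizer (φ.range : Set G)) :=
  isZGroup_of_centralizes h (a := φ slI) (b := φ slJ) ((orderOf_injective φ hφ _).trans orderOf_slI)
    ((orderOf_injective φ hφ _).trans orderOf_slJ)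
    (by rw [← map_mul, ← map_mul, hφ.ne_iff]; exact slI_mul_slJ_ne) _
    fun _ hg => ⟨hg _ ⟨_, rfl⟩, hg _ ⟨_, rfl⟩⟩

theorem exists_o3_of_not_npc (h : PQCond G) (hn : ¬ Cfsg.HasNormalPComplement 2 G) :
    ∃ a : G, O3 a := by
  obtain ⟨Q, -, g, -, ⟨k, hk⟩, hg⟩ := (npc_or_Q8 h).resolve_left hn
  have := Fact.mk Nat.prime_three
  have h1 : 3 ∣ orderOf g := by
    by_contra h2
    refine hg ?_
    rw [orderOf_eq_one_iff.1 (Nat.eq_one_of_dvd_coprimes (((Nat.Prime.coprime_iff_not_dvd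
      Nat.prime_three).2 h2).pow_left k) (orderOf_dvd_of_pow_eq_one hk) dvd_rfl)]
    exact one_mem _
  obtain ⟨a, ha⟩ := exists_prime_orderOf_dvd_card' (G := G) 3 (h1.trans (orderOf_dvd_natCard g))
  exact ⟨a, o3_iff.2 ha⟩

/-- **Zassenhaus' theorem**: a perfect Frobenius complement is `SL(2, 5)`. -/
theorem HasFree.equiv_SL25_of_perfect [Nontrivial G] (h : HasFree ℂ G)
    (hperf : commutator G = ⊤) : Nonempty (G ≃* SL25) := by
  have hpq := h.pqCond
  have hns : ¬ Group.IsSolvable G := fun _ =>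
    (Group.IsSolvable.commutator_lt_top_of_nontrivial G).ne hperf
  rcases h.trichotomy with h1 | ⟨Q, _, ⟨e⟩⟩ | ⟨φ, h1, h2⟩
  · exfalso
    obtain ⟨a, ha⟩ := exists_o3_of_not_npc hpq fun hn => hns (isSolvable_of_npc hpq hn)
    have := Fact.mk Nat.prime_three
    have : (zpowers a).Normal := ⟨by
      rintro _ ⟨k, rfl⟩ g
      simp only [← conj_zpow]
      rcases h1 a _ ha (ha.conj g) with e | e <;> rw [e]
      · exact zpow_mem_zpowers a k
      · exact zpow_mem (inv_mem (mem_zpowers a)) k⟩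
    refine not_mem_center_of_perfect hperf (p := 3)
      (fun P => (hpq.subgroup P).isCyclic_of_odd P.isPGroup' (by norm_num)) (o3_iff.1 ha) ?_
    have h2 := SolvStruct.commutator_le_centralizer_of_cyclic (zpowers a)
    rw [hperf] at h2
    exact mem_center_iff.2 fun g => (h2 (mem_top g) a (mem_zpowers a)).symm
  · exact absurd (isSolvable_of_normal_Q8 hpq e) hns
  · have : φ.range.Normal := h2 ▸ DD_normal G
    obtain ⟨f, hf, hf'⟩ := exists_hom_perm_five φ h1
    have hZ := isZGroup_centralizer_SL25 hpq h1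
    have h3 : φ.range ⊔ centralizer (φ.range : Set G) = ⊤ := by
      rw [← hf, ← comap_map_eq, hf', eq_top_iff, ← hperf, _root_.commutator_def, commutator_le]
      intro a _ b _
      rw [mem_comap, Equiv.Perm.mem_alternatingGroup, map_commutatorElement, map_commutatorElement,
        commutatorElement_eq_one_iff_mul_comm, mul_comm]
    have h4 : Function.Surjective ((QuotientGroup.mk' φ.range).comp
        (centralizer (φ.range : Set G)).subtype) := by
      intro x
      obtain ⟨g, rfl⟩ := QuotientGroup.mk'_surjective _ x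
      obtain ⟨a, ha, b, hb, rfl⟩ := mem_sup_of_normal_left.1 (h3 ▸ mem_top g)
      refine ⟨⟨b, hb⟩, ?_⟩
      rw [map_mul, QuotientGroup.mk'_apply _ a, (QuotientGroup.eq_one_iff a).2 ha, one_mul]
      rfl
    have h5 := solvable_of_surjective h4
    have h6 : φ.range = ⊤ := by
      by_contra h7
      have := QuotientGroup.nontrivial_iff.2 h7
      refine (Group.IsSolvable.commutator_lt_top_of_nontrivial (G ⧸ φ.range)).ne ?_
      rw [_root_.commutator_def, ← map_top_of_surjective _ (QuotientGroup.mk'_surjective φ.range),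
        ← map_commutator, ← _root_.commutator_def, hperf]
    exact ⟨(MulEquiv.ofBijective φ ⟨h1, MonoidHom.range_eq_top.1 h6⟩).symm⟩

/-- A non-solvable Frobenius complement has a normal subgroup `SL(2, 5)`. -/
theorem HasFree.exists_normal_SL25 (h : HasFree ℂ G) (hns : ¬ Group.IsSolvable G) :
    ∃ φ : SL25 →* G, Function.Injective φ ∧ φ.range.Normal := by
  obtain ⟨n, hn⟩ : ∃ n, derivedSeries G (n + 1) = derivedSeries G n := by
    obtain ⟨n, hn⟩ := WellFoundedLT.antitone_chain_condition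
      (antitone_nat_of_succ_le fun n => (derivedSeries_succ G n).le.trans (commutator_le_left _ _))
    exact ⟨n, (hn _ (Nat.le_succ n)).symm⟩
  have h1 : derivedSeries G n ≠ ⊥ := fun e => hns ⟨n, e⟩
  have := (nontrivial_iff_ne_bot _).2 h1
  obtain ⟨e⟩ := (h.subgroup (derivedSeries G n)).equiv_SL25_of_perfect (by
    apply map_injective (derivedSeries G n).subtype_injective
    rw [_root_.commutator_def, map_commutator, ← MonoidHom.range_eq_map, range_subtype,
      ← derivedSeries_succ, hn])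
  refine ⟨(derivedSeries G n).subtype.comp e.symm.toMonoidHom,
    (derivedSeries G n).subtype_injective.comp e.symm.injective, ?_⟩
  rw [MonoidHom.range_comp, MonoidHom.range_eq_top.2 e.symm.surjective, ← MonoidHom.range_eq_map,
    range_subtype]
  infer_instance

end Group

end CfsgLib.FrobCompl
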