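import Mathlib
import Cfsg.Agent.Lib.FrobCompl.Zassenhaus

/-!
# Non-solvable Frobenius complements
-/

set_option autoImplicit false

namespace CfsgLib.FrobCompl

open Subgroup Frob

variable {G : Type*} [Group G] [Finite G] {φ : SL25 →* G}

omit [Finite G] in
theorem mem_range_inf_centralizer (hφ : Function.Injective φ) {g : G} (h1 : g ∈ φ.range)
    (h2 : g ∈ centralizer (φ.range : Set G)) : g = 1 ∨ g = φ (-1) := by
  obtain ⟨x, rfl⟩ := h1
  have : x ∈ center SL25 := mem_center_iff.2 fun y => hφ (by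
    rw [map_mul, map_mul]; exact h2 _ ⟨y, rfl⟩)
  rcases mem_center_SL25.1 this with rfl | rfl
  · exact Or.inl (map_one φ)
  · exact Or.inr rfl

omit [Finite G] in
theorem neg_one_mul_self (φ : SL25 →* G) : φ (-1) * φ (-1) = 1 := by
  rw [← map_mul]; simp

omit [Finite G] in
theorem neg_one_ne (hφ : Function.Injective φ) : φ (-1) ≠ 1 := by
  rw [Ne, map_eq_one_iff φ hφ]; decide

theorem no_four_centralizer (h : PQCond G) (hφ : Function.Injective φ) {g : G}
    (hg : g ∈ centralizer (φ.range : Set G)) : orderOf g ≠ 4 :=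
  no_four_of_centralizes h (a := φ slI) (b := φ slJ)
    ((orderOf_injective φ hφ _).trans orderOf_slI) ((orderOf_injective φ hφ _).trans orderOf_slJ)
    (by rw [← map_mul, ← map_mul, hφ.ne_iff]; exact slI_mul_slJ_ne) (hg _ ⟨_, rfl⟩) (hg _ ⟨_, rfl⟩)

omit [Finite G] in
theorem sq_eq_one_of_no_four {u : G} (hu : ∃ k, u ^ 2 ^ k = 1)
    (h4 : ∀ g ∈ zpowers u, orderOf g ≠ 4) : u * u = 1 := by
  obtain ⟨k, hk⟩ := hu
  obtain ⟨j, -, hj⟩ := (Nat.dvd_prime_pow Nat.prime_two).1 (orderOf_dvd_of_pow_eq_one hk)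
  by_cases h2 : j ≤ 1
  · rw [← sq, ← orderOf_dvd_iff_pow_eq_one, hj]
    exact pow_dvd_pow 2 h2
  · exfalso
    obtain ⟨i, rfl⟩ : ∃ i, j = i + 2 := ⟨j - 2, by omega⟩
    refine h4 (u ^ 2 ^ i) (npow_mem_zpowers u _) ?_
    rw [orderOf_pow_of_dvd (by positivity) (hj ▸ pow_dvd_pow 2 (by omega)), hj, pow_add,
      Nat.mul_div_cancel_left _ (by positivity)]
    rfl

/-- The centraliser of a normal subgroup `SL(2, 5)`. -/
theorem exists_complement_centralizer (h : PQCond G) (hφ : Function.Injective φ)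
    [φ.range.Normal] : ∃ M : Subgroup G, M.Normal ∧ M ≤ centralizer (φ.range : Set G) ∧
      (Nat.card M).Coprime 30 ∧ IsZGroup M ∧ φ.range ⊓ M = ⊥ ∧
      ∀ g ∈ centralizer (φ.range : Set G), g ∈ M ∨ φ (-1) * g ∈ M := by
  set C := centralizer (φ.range : Set G) with hC
  have hnpc : Cfsg.HasNormalPComplement 2 C := by
    refine (npc_or_Q8 (h.subgroup C)).resolve_right ?_
    rintro ⟨Q, ⟨e⟩, -⟩
    obtain ⟨a, -, -, -, ha, -⟩ := exists_four_pair e
    exact no_four_centralizer h hφ a.2 (by rw [orderOf_coe, ha])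
  have hZ : IsZGroup C := isZGroup_centralizer_SL25 h hφ
  let M := (Cfsg.pResidual 2 C).map C.subtype
  have hM : M ≤ C := map_subtype_le _
  have hodd : ∀ g ∈ M, Odd (orderOf g) := by
    rintro _ ⟨g, hg, rfl⟩
    rw [coe_subtype, orderOf_coe]
    exact Nat.coprime_two_right.1 ((Transfer.mem_pResidual_iff_coprime hnpc g).1 hg)
  have hbot : φ.range ⊓ M = ⊥ := by
    rw [eq_bot_iff]
    rintro g ⟨h1, h2⟩
    refine (mem_range_inf_centralizer hφ h1 (hM h2)).resolve_right fun e => ?_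
    have := hodd g h2
    rw [e, orderOf_eq_prime (p := 2) (by rw [sq, neg_one_mul_self]) (neg_one_ne hφ)] at this
    exact absurd this (by decide)
  have key : ∀ (p : ℕ) (s : SL25), p.Prime → orderOf s = p → ¬ p ∣ Nat.card M := by
    intro p s hp hs hd
    have := Fact.mk hp
    obtain ⟨m, hm⟩ := exists_prime_orderOf_dvd_card' (G := M) p hd
    have h1 := h.mem_zpowers_of_commute hp ((orderOf_injective φ hφ s).trans hs)
      ((orderOf_coe m).trans hm) (hM m.2 _ ⟨s, rfl⟩).symm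
    have h2 : (m : G) ∈ φ.range ⊓ M := ⟨zpowers_le.2 (show φ s ∈ φ.range from ⟨s, rfl⟩) h1, m.2⟩
    rw [hbot, mem_bot] at h2
    rw [← orderOf_coe, h2, orderOf_one] at hm
    exact hp.ne_one hm.symm
  have := Fact.mk Nat.prime_three
  have := Transfer.pResidual_characteristic 2 C
  refine ⟨M, ConjAct.normal_of_characteristic_of_normal, hM, ?_,
    IsZGroup.of_injective (f := inclusion hM) (inclusion_injective hM), hbot, fun g hg => ?_⟩
  · rw [show 30 = 2 * (3 * 5) by rfl]
    refine Nat.Coprime.mul_right ?_ (Nat.Coprime.mul_right ?_ ?_)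
    · rw [SolvStruct.card_map_subtype]
      exact Transfer.hasNormalPComplement_iff_coprime.1 hnpc
    · exact ((Nat.Prime.coprime_iff_not_dvd Nat.prime_three).2 (key 3 slX Nat.prime_three
        (orderOf_eq_prime slX_pow (by decide)))).symm
    · exact ((Nat.Prime.coprime_iff_not_dvd Nat.prime_five).2 (key 5 slW Nat.prime_five
        (orderOf_eq_prime slW_pow (by decide)))).symm
  · obtain ⟨P⟩ : Nonempty (Sylow 2 C) := inferInstance
    obtain ⟨⟨⟨m, hm⟩, ⟨u, hu⟩⟩, e⟩ := (Transfer.isComplement'_pResidual hnpc P).2 ⟨g, hg⟩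
    have e' : (m : G) * u = g := congrArg Subtype.val e
    have hm' : (m : G) ∈ M := ⟨m, hm, rfl⟩
    have h2 : (u : G) * u = 1 := sq_eq_one_of_no_four (by
      obtain ⟨k, hk⟩ := P.isPGroup' ⟨u, hu⟩
      exact ⟨k, congrArg (fun x : P => ((x : C) : G)) hk⟩)
      fun x hx => no_four_centralizer h hφ (zpowers_le.2 u.2 hx)
    by_cases h3 : (u : G) = 1
    · left; rwa [← e', h3, mul_one]
    · right
      have h4 := invol_eq_of_commute h (neg_one_mul_self φ) (neg_one_ne hφ) h2 h3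
        (u.2 _ ⟨_, rfl⟩).symm
      rwa [← e', h4, ← mul_assoc, m.2 _ ⟨_, rfl⟩, mul_assoc, neg_one_mul_self, mul_one]

theorem index_sup_centralizer (hφ : Function.Injective φ) [φ.range.Normal] :
    (φ.range ⊔ centralizer (φ.range : Set G)).index = 1 ∨
      (φ.range ⊔ centralizer (φ.range : Set G)).index = 2 := by
  obtain ⟨f, hf, hf'⟩ := exists_hom_perm_five φ hφ
  rw [← hf, ← comap_map_eq, hf', index_comap, ← Nat.dvd_prime Nat.prime_two,
    ← alternatingGroup.index_eq_two (α := Fin 5)]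
  exact relIndex_dvd_index_of_normal _ _

omit [Finite G] in
theorem sup_eq_sup_centralizer {M : Subgroup G} (hM : M ≤ centralizer (φ.range : Set G))
    (h : ∀ g ∈ centralizer (φ.range : Set G), g ∈ M ∨ φ (-1) * g ∈ M) :
    φ.range ⊔ M = φ.range ⊔ centralizer (φ.range : Set G) := by
  refine le_antisymm (sup_le_sup_left hM _) (sup_le le_sup_left fun g hg => ?_)
  rcases h g hg with h1 | h1
  · exact mem_sup_right h1
  · have := mul_mem (mem_sup_left (T := M) (show φ (-1) ∈ φ.range from ⟨_, rfl⟩)) (mem_sup_right h1)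
    rwa [← mul_assoc, neg_one_mul_self, one_mul] at this

end CfsgLib.FrobCompl
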